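import Mathlib
import Cfsg.Agent.SPOR.KComp
import Cfsg.Agent.SPOR.CEPres
import Cfsg.Agent.SPOR.LE.Six

/-!
Width four, irreducible action: definitions.  Vectors of `V = 𝔽₂⁸` are the numbers below `256`,
matrices are the numbers below `2 ^ 64` (byte `i` is the image of the basis vector `2 ^ i`).
The basis vectors are indexed by `l < 8`, read as an element of `Λ = 𝔽₂³`.
-/

set_option autoImplicit false

namespace CL.LE.W

open CL.K CL.LX CL.CE QuadraticMap Module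

/-! ### codes -/

/-- bit `v` of the table `T` -/
def bt (T v : ℕ) : Bool := Nat.beq (bit T v) 1

/-- column `i` -/
def col (M i : ℕ) : ℕ := Nat.land (Nat.shiftRight M (Nat.mul 8 i)) 255

/-- matrix times vector (only the low eight bits of `v` count) -/
def ap (M v : ℕ) : ℕ :=
  Nat.xor (Nat.xor (Nat.xor (Nat.mul (bit v 0) (col M 0)) (Nat.mul (bit v 1) (col M 1)))
      (Nat.xor (Nat.mul (bit v 2) (col M 2)) (Nat.mul (bit v 3) (col M 3))))
    (Nat.xor (Nat.xor (Nat.mul (bit v 4) (col M 4)) (Nat.mul (bit v 5) (col M 5)))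
      (Nat.xor (Nat.mul (bit v 6) (col M 6)) (Nat.mul (bit v 7) (col M 7))))

/-- the matrix with columns `f 0, ..., f 7` (all below `256`) -/
def mk (f : ℕ → ℕ) : ℕ :=
  Nat.lor (Nat.lor (Nat.lor (f 0) (Nat.shiftLeft (f 1) 8))
      (Nat.lor (Nat.shiftLeft (f 2) 16) (Nat.shiftLeft (f 3) 24)))
    (Nat.lor (Nat.lor (Nat.shiftLeft (f 4) 32) (Nat.shiftLeft (f 5) 40))
      (Nat.lor (Nat.shiftLeft (f 6) 48) (Nat.shiftLeft (f 7) 56)))

/-- product of matrices -/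
noncomputable def mm (M N : ℕ) : ℕ :=
  force M fun M => force N fun N => mk fun i => force (col N i) (ap M)

/-- the identity -/
def idM : ℕ := 0x8040201008040201

/-- the translation `2 ^ i ↦ 2 ^ (i xor l)` for `l < 8` -/
def trM (l : ℕ) : ℕ := Nat.land (Nat.shiftRight
  0x1020408102040800201080420108040040801024080102008040201804020101020408001020408201080400201080440801020040801028040201008040201
  (Nat.mul 64 l)) 0xffffffffffffffff

/-- parity of a number below `256`, as `0` or `1` -/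
def par (v : ℕ) : ℕ := bit 0x6996966996696996966969966996966996696996699696696996966996696996 v

/-- the five normal forms of `c : Λ → 𝔽₂` (bit `l` is `c l`) -/
def cL : List ℕ := [0x80, 0x0e, 0x16, 0xf8, 0xfe]

/-- selection by normal form -/
def sel (c a b d e f : ℕ) : ℕ :=
  bif Nat.beq c 0x80 then a else bif Nat.beq c 0x0e then b else bif Nat.beq c 0x16 then d else
    bif Nat.beq c 0xf8 then e else f

/-- the quadratic form `∑_{i < j} v_i v_j c (i xor j)` on `v < 256`; `true` is `1` -/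
def qc (c v : ℕ) : Bool := bt (sel c
  0x6996969699666666a55a5a5a55aaaaaac33c3c3c33cccccc0ff0f0f0ff000000
  0x7ee88117811781178117811781177ee88117811781177ee881177ee87ee87ee8
  0x7dbed714b172e4278d4ed81b4182eb2882be2814b18de4d88db1d8e4be821428
  0x6ac0fca9fca96ac0fca96ac0953f0356fca9953f6ac003566ac0035603566ac0
  0x7ee8e881e8818117e88181178117177ee88181178117177e8117177e177e7ee8) v

/-- its polar form -/
def bc (c u v : ℕ) : Bool := xor (qc c (Nat.xor u v)) (xor (qc c u) (qc c v))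

/-- membership in `E = ⟨255, 0x0f, 0x33, 0x55⟩` for `v < 256` -/
def inE (v : ℕ) : Bool := bt 0x8001000000001008000004200240000000000240042000001008000000008001 v

/-- the Eichler transformation with centre `x` and vector `w` -/
noncomputable def ecM (c x w : ℕ) : ℕ := force x fun x => force w fun w => mk fun i =>
  Nat.xor (Nat.xor (Nat.shiftLeft 1 i) (bif bc c x (Nat.shiftLeft 1 i) then w else 0))
    (bif xor (bc c w (Nat.shiftLeft 1 i)) (qc c w && bc c x (Nat.shiftLeft 1 i)) then x else 0)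

/-- `M` is an isometry with inverse `N` -/
structure Is (c M N : ℕ) : Prop where
  lt : M < 2 ^ 64
  lt' : N < 2 ^ 64
  mul : mm M N = idM
  mul' : mm N M = idM
  q : ∀ v < 256, qc c (ap M v) = qc c v

/-- `M` is an isometry which fixes `x = 255` and normalizes `E` and `Λ` -/
structure Nz (c M N : ℕ) : Prop extends Is c M N where
  x : ap M 255 = 255
  E : ∀ v < 256, inE (ap M v) = inE v
  L : ∀ l < 8, ∃ m < 8, mm M (trM l) = mm (trM m) M

/-- What the group gives at the level of codes.  `Γ M`: `M` is induced by `C(z)`.  `P u ui`: there is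
a point `p = u x` in the orbit of `x` with `E_p = u E` and `Λ_p = u Λ u⁻¹`. -/
structure NC (c : ℕ) (P : ℕ → ℕ → Prop) (Γ : ℕ → Prop) : Prop where
  hc : c ∈ cL
  pid : P idM idM
  pis : ∀ u ui, P u ui → Is c u ui
  gam : ∀ u ui, P u ui → ∀ l < 8, Γ (mm u (mm (trM l) ui))
  mul : ∀ M N, Γ M → Γ N → Γ (mm M N)
  inv : ∀ M, Γ M → ∃ N, Γ N ∧ Is c M N
  act : ∀ M N u ui, Γ M → Is c M N → P u ui → P (mm M u) (mm ui N)
  rt : ∀ M N u ui, Nz c M N → P u ui → P (mm u M) (mm N ui)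
  tr : ∀ u ui, P u ui → ∃ M, Γ M ∧ ap M 255 = ap u 255
  c1 : ∀ u ui, P u ui → ap u 255 = 255 → Nz c u ui
  w1 : ∀ u ui, P u ui → inE (ap u 255) = true → ap u 255 ≠ 255 →
    (∀ v < 256, inE v = true → inE (ap ui v) = true →
      v = 0 ∨ v = 255 ∨ v = ap u 255 ∨ v = ap u 255 ^^^ 255) →
    ∀ l < 8, ap (trM l) (ap u 255) = ap u 255 → ∃ m < 8, mm (trM l) u = mm u (trM m)
  np : ∃ u ui, P u ui ∧ bc c (ap u 255) 255 = true

/-- the data of a configuration -/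
structure Dat where
  /-- the form -/
  c : ℕ
  /-- the frame of the point `1` -/
  τ : ℕ
  /-- its inverse -/
  τi : ℕ
  /-- further generators of `Γ₀` -/
  ex : List ℕ
  /-- the orbit of `x` -/
  oP : ℕ
  /-- the stabilizer of `x` lies in `Λ · SL` -/
  SL : List ℕ

/-- generators of `Γ₀` -/
noncomputable def Dat.gs (a : Dat) : List ℕ := [trM 1, trM 2, trM 4, mm a.τ (mm (trM 1) a.τi),
  mm a.τ (mm (trM 2) a.τi), mm a.τ (mm (trM 4) a.τi)] ++ a.ex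

/-- the product of the matrices `L[i]` along a word -/
noncomputable def mw (L : List ℕ) (w : List ℕ) : ℕ :=
  List.rec (motive := fun _ => ℕ) idM (fun a _ ih => mm (L.getD a idM) ih) w

/-- the configuration at the level of codes -/
structure CC (a : Dat) (P : ℕ → ℕ → Prop) (Γ : ℕ → Prop) : Prop where
  pe : P a.τ a.τi
  ex : ∀ M ∈ a.ex, Γ M
  orb : ∀ u ui, P u ui → bt a.oP (ap u 255) = true
  orb' : ∀ v < 256, bt a.oP v = true → ∃ M, Γ M ∧ ap M 255 = v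
  stab : ∀ M, Γ M → ap M 255 = 255 → ∃ l < 8, ∃ s ∈ a.SL, M = mm (trM l) s

/-- `Ω₈⁺(2)`: `Γ₀ = S₃³`, 27 points -/
def dD : Dat where
  c := 0x80
  τ := 0x80f0ccaac0a088ff
  τi := 0x808884cc82aa96ff
  ex := []
  oP := 0x800100000000100100000401000001010000000000210011000900050003953e
  SL := [
    0x8040201008040201, 0x8040080420100201, 0x8020401008020401, 0x8020080240100401,
    0x8008400420021001, 0x8008200240041001]

/-- `PΩ₈⁺(3)`: `Γ₀ = 3⁴ : 2³`, 81 points -/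
def dP : Dat where
  c := 0x80
  τ := 0x80f0ccaac0a088ff
  τi := 0x808884cc82aa96ff
  ex := [0x68d4b2618e492917]
  oP := 0x824129684698188152a42481a85441413c42c3824821221160090a0500c3953e
  SL := [
    0x8040201008040201, 0x8040080420100201, 0x8020401008020401, 0x8020080240100401,
    0x8008400420021001, 0x8008200240041001, 0xbc7cd3e3c7cb3e3d, 0xbc7cc7cbd3e33e3d,
    0xbcd37ce3c73ecb3d, 0xbcd3c73e7ce3cb3d, 0xbcc77ccbd33ee33d, 0xbcc7d33e7ccbe33d,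
    0xda7ab5e5a7ad5e5b, 0xda7aa7adb5e55e5b, 0xdab57ae5a75ead5b, 0xdab5a75e7ae5ad5b,
    0xdaa77aadb55ee55b, 0xdaa7b55e7aade55b, 0xe66e9dd99bb97667, 0xe66e9bb99dd97667,
    0xe69d6ed99b76b967, 0xe69d9b766ed9b967, 0xe69b6eb99d76d967, 0xe69b9d766eb9d967]

/-- `HN`: `Γ₀ = A₅ ≀ 2`, 75 points -/
def dH : Dat where
  c := 0x0e
  τ := 0xeedebe0f797573ff
  τi := 0x0fdebe7ee9e5e3ff
  ex := []
  oP := 0x80017e0070e066604cc85a4854a800032aa83c2832c800050ee0001101018116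
  SL := [
    0x8040201008040201, 0x8040102004080201, 0x8020401008020401, 0x8020104002080401,
    0x8010402004020801, 0x8010204002040801, 0x79b6d6e99e6d6b97, 0x79b6e9d66d9e6b97,
    0x79d6b6e99e6b6d97, 0x79d6e9b66b9e6d97, 0x79e9b6d66d6b9e97, 0x79e9d6b66b6d9e97,
    0x75bad5ea5dae57ab, 0x75baead5ae5d57ab, 0x75d5baea5d57aeab, 0x75d5eaba575daeab,
    0x75eabad5ae575dab, 0x75ead5ba57ae5dab, 0x73b3dcec3b37cecd, 0x73b3ecdc373bcecd,
    0x73dcb3ec3bce37cd, 0x73dcecb3ce3b37cd, 0x73ecb3dc37ce3bcd, 0x73ecdcb3ce373bcd]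

/-- `Ω₈⁻(2)`: `Γ₀ = S₃ × A₅`, 15 points -/
def dM : Dat where
  c := 0x16
  τ := 0x96422410180402ff
  τi := 0x96422410180402ff
  ex := []
  oP := 0x8000000000000000000000000040000300000200000000050000001101010116
  SL := [
    0x8040201008040201, 0x8040080420100201, 0x8020401008020401, 0x8020080240100401,
    0x8008400420021001, 0x8008200240041001]

/-- `³D₄(2)`: `Γ₀ = L₂(8)`, 9 points -/
def dT : Dat where
  c := 0xfe
  τ := 0x40102008800402ff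
  τi := 0x08802040100402ff
  ex := []
  oP := 0x8000000000000000000000000000000100000000000000010000000100010116
  SL := [
    0x8040201008040201, 0x0804408010200201, 0x1020040880400201, 0x1040802002080401,
    0x2080080210400401, 0x0208401020800401, 0x2040108004020801, 0x0402402080100801,
    0x8010020420400801, 0x4004800820021001, 0x0880022040041001, 0x2002044008801001,
    0x4008100280042001, 0x0210048040082001, 0x8004084002102001, 0x0280200804104001,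
    0x0410800208204001, 0x0820100402804001, 0x0420081040028001, 0x4002200410088001,
    0x1008024004208001]

/-- `Th`: `Γ₀ = A₉`, 135 points -/
def dF : Dat where
  c := 0xfe
  τ := 0x40102008800402ff
  τi := 0x08802040100402ff
  ex := [0x372f1d66a6391bd9]
  oP := 0x8117177e177e7ee8177e7ee87ee8e881177e7ee87ee8e8817ee8e881e8818116
  SL := [
    0x8040201008040201, 0x0804408010200201, 0x1020040880400201, 0x1040802002080401,
    0x2080080210400401, 0x0208401020800401, 0x2040108004020801, 0x0402402080100801,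
    0x8010020420400801, 0x4004800820021001, 0x0880022040041001, 0x2002044008801001,
    0x4008100280042001, 0x0210048040082001, 0x8004084002102001, 0x0280200804104001,
    0x0410800208204001, 0x0820100402804001, 0x0420081040028001, 0x4002200410088001,
    0x1008024004208001, 0x7cbce3d3c7cb3e3d, 0xc7cbbc7cd3e33e3d, 0xd3e3cbc77cbc3e3d,
    0xe3bcd37ccb3ec73d, 0xcb3ebce37cd3c73d, 0x7cd33ecbe3bcc73d, 0xd3bc7ce33ec7cb3d,
    0x3ec7bcd3e37ccb3d, 0xe37cc73ed3bccb3d, 0xbccb7cc7e33ed33d, 0xc77c3ee3bccbd33d,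
    0xe33ecbbcc77cd33d, 0x3ed3cb7cbcc7e33d, 0xbcc7d33e7ccbe33d, 0x7ccbc7bc3ed3e33d,
    0xcbe3c7d3bc3e7c3d, 0xbc3ee3cbd3c77c3d, 0xd3c73ebccbe37c3d, 0x3e7ce3c7cbd3bc3d,
    0xcbd37c3ec7e3bc3d, 0xc7e3d3cb3e7cbc3d, 0x7ab5dae5ad5ea75b, 0xe5da5ead7ab5a75b,
    0xad5eb57ae5daa75b, 0xe5b57adaa7ad5e5b, 0xda7aada7e5b55e5b, 0xa7adb5e5da7a5e5b,
    0xdab5e57a5ea7ad5b, 0x7ae5a75edab5ad5b, 0x5ea7b5da7ae5ad5b, 0xaddae55ea77ab55b,
    0xa77adaad5ee5b55b, 0x5ee57aa7addab55b, 0x5edaade5b5a77a5b, 0xb5a7da5ee5ad7a5b,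
    0xe5ada7b55eda7a5b, 0xb55e7aaddaa7e55b, 0xad7aa7dab55ee55b, 0xdaa75eb5ad7ae55b,
    0xb5ade5a77a5eda5b, 0xa7e55e7ab5adda5b, 0x7a5eadb5a7e5da5b, 0x76b9d9e66e9d9b67,
    0xe6d99d6e76b99b67, 0x6e9db976e6d99b67, 0xe6b976d99b6e9d67, 0x9b6eb9e6d9769d67,
    0xd9766e9be6b99d67, 0xd9b9e6769d9b6e67, 0x76e69b9dd9b96e67, 0x9d9bb9d976e66e67,
    0x9dd96ee6b99b7667, 0xb99bd99de66e7667, 0xe66e9bb99dd97667, 0x6ed9e69d9b76b967,
    0x9de6769b6ed9b967, 0x9b76d96e9de6b967, 0xb96ee69b769dd967, 0x9be69d76b96ed967,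
    0x769d6eb99be6d967, 0xb99d766ed99be667, 0x6e769bd9b99de667, 0xd99b9db96e76e667,
    0x79b6e9d66d9e6b97, 0xd6e99e6d79b66b97, 0x6d9eb679d6e96b97, 0xe9b6d6799e6b6d97,
    0x79d66b9ee9b66d97, 0x9e6bb6e979d66d97, 0xd6b679e96b6d9e97, 0x6b6db6d6e9799e97,
    0xe9796d6bd6b69e97, 0x9ee96dd6b66b7997, 0xb66be99ed66d7997, 0xd66d6bb69ee97997,
    0x6de9d69e6b79b697, 0x6b79e96d9ed6b697, 0x9ed6796b6de9b697, 0xb69e796de96bd697,
    0x6d796be9b69ed697, 0xe96b9eb66d79d697, 0x6bd69e79b66de997, 0xb66dd66b799ee997,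
    0x799e6db66bd6e997, 0x75baead5ae5d57ab, 0xd5ea5dae75ba57ab, 0xae5dba75d5ea57ab,
    0xeabad5755d57aeab, 0x75d5575deabaaeab, 0x5d57baea75d5aeab, 0xd5ba75ea57ae5dab,
    0xea75ae57d5ba5dab, 0x57aebad5ea755dab, 0xaeead55d5775baab, 0x5dd57557aeeabaab,
    0x5775eaae5dd5baab, 0x5deaaed5ba5775ab, 0xba57ea5dd5ae75ab, 0xd5ae57ba5dea75ab,
    0x57d55d75baaeeaab, 0xbaaed557755deaab, 0x755daeba57d5eaab, 0xba5d75aeea57d5ab,
    0xae7557eaba5dd5ab, 0xea575dbaae75d5ab, 0x73b3dcec3b37cecd, 0x3b37b373ecdccecd,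
    0xecdc373b73b3cecd, 0xecb373dcce3b37cd, 0xce3bb3ecdc7337cd, 0xdc733bceecb337cd,
    0xdcb3ec7337ce3bcd, 0x37ceb3dc73ec3bcd, 0x73ecce37dcb33bcd, 0xb33becce7337dccd,
    0xceec3773b33bdccd, 0x73373bb3ceecdccd, 0xb337733bdcceeccd, 0x3b73cedcb337eccd,
    0xdcce37b33b73eccd, 0x37dc3becb3ce73cd, 0xb3cedc37ec3b73cd, 0xec3bceb337dc73cd,
    0x37ec73ce3bdcb3cd, 0xce73dc3b37ecb3cd, 0x3bdcec37ce73b3cd, 0x8f4f1f2ff4f8f2f1,
    0xf4f84f8f2f1ff2f1, 0x2f1ff8f48f4ff2f1, 0x1f4f2f8ff8f2f4f1, 0xf8f24f1f8f2ff4f1,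
    0x8f2ff2f81f4ff4f1, 0x2f4f8f1ff2f4f8f1, 0x1f8ff4f22f4ff8f1, 0xf2f44f2f1f8ff8f1,
    0xf22ff88f4ff41ff1, 0x4ff42ff28ff81ff1, 0x8ff8f44ff22f1ff1, 0x4ff88ff41ff22ff1,
    0xf48ff21f4ff82ff1, 0x1ff2f84ff48f2ff1, 0xf82f8ff2f41f4ff1, 0xf28f1ff4f82f4ff1,
    0xf41f2ff8f28f4ff1, 0xf81ff42f4ff28ff1, 0x4ff21ff82ff48ff1, 0x2ff4f24ff81f8ff1]

/-- the six configurations -/
def dL : List Dat := [dD, dP, dH, dM, dT, dF]

/-! ### the group of order `2 ^ 12` -/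

/-- product of the codes `v, w < 512` of `q₀^.. ⋯ q₇^.. z^..` -/
noncomputable def qm (c v w : ℕ) : ℕ := force v fun v => force w fun w =>
  Nat.xor (Nat.xor v w) (Nat.shiftLeft (par (Nat.land v
    (ap (sel c 0x10204080 0x80c0e000080c0e 0x80806080482816 0x4080f0f0f4f8 0x80c0e0f0f8fcfe) w))) 8)

/-- the automorphism `q_i ↦ I[i]`, `z ↦ z` on codes below `512` -/
noncomputable def av (c : ℕ) (I : List ℕ) (v : ℕ) : ℕ := force v fun v =>
  List.rec (motive := fun _ => ℕ) (Nat.land v 256)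
    (fun i _ ih => bif bt v i then qm c (I.getD i 0) ih else ih) [0, 1, 2, 3, 4, 5, 6, 7]

/-- the images of the `q_i` under `a_l` -/
def trI (l : ℕ) : List ℕ := [0, 1, 2, 3, 4, 5, 6, 7].map fun i => Nat.shiftLeft 1 (Nat.xor i l)

/-- product of the codes `x = v + 512 l < 4096` of `(code v) * a_l` -/
noncomputable def tm (c x y : ℕ) : ℕ := force x fun x => force y fun y =>
  Nat.lor (qm c (Nat.land x 511) (av c (trI (Nat.shiftRight x 9)) (Nat.land y 511)))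
    (Nat.shiftLeft (Nat.xor (Nat.shiftRight x 9) (Nat.shiftRight y 9)) 9)

/-- the word of `a_l` in the letters `0, 1, 2` -/
def lw (l : ℕ) : List ℕ := [0, 1, 2].filter l.testBit

/-- the word of a code; `q_i = a_i e a_i` -/
def tw (x : ℕ) : List ℕ :=
  ([0, 1, 2, 3, 4, 5, 6, 7].filter x.testBit).flatMap (fun i => lw i ++ 3 :: lw i) ++
    ((if x.testBit 8 then [4] else []) ++ lw (x >>> 9))

/-- the code of a word in the letters `0, ..., 4` -/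
noncomputable def tev (c : ℕ) (w : List ℕ) : ℕ :=
  List.rec (motive := fun _ => ℕ) 0 (fun a _ ih => tm c ([512, 1024, 2048, 1, 256].getD a 0) ih) w

/-- the matrix of a table -/
def tbM (I : List ℕ) : ℕ := mk fun i => Nat.land (I.getD i 0) 255

/-! ### the group side -/

variable {G : Type*} [Group G]

/-- `g` centralizes `z` and induces the matrix `M` -/
structure Ac (Q : Subgroup G) (z : G) (κ : G → ℕ) (g : G) (M : ℕ) : Prop where
  comm : g * z = z * g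
  lt : M < 2 ^ 64
  act : ∀ y ∈ Q, κ (g * y * g⁻¹) = ap M (κ y)

/-- coordinates on `Q / ⟨z⟩` in which the form is `qc c` -/
structure KF (Q : Subgroup G) (z : G) (c : ℕ) (κ : G → ℕ) : Prop extends LX Q z where
  hc : c ∈ cL
  lt : ∀ y ∈ Q, κ y < 256
  mul : ∀ x ∈ Q, ∀ y ∈ Q, κ (x * y) = κ x ^^^ κ y
  surj : ∀ v < 256, ∃ y ∈ Q, κ y = v
  zero : ∀ y ∈ Q, κ y = 0 ↔ y = 1 ∨ y = z
  sq_iff : ∀ y ∈ Q, y * y = 1 ↔ qc c (κ y) = false
  comm_iff : ∀ x ∈ Q, ∀ y ∈ Q, x * y = y * x ↔ bc c (κ x) (κ y) = false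

/-- the point `p` has the frame `u` -/
structure Pt (D : Set G) (Q : G → Subgroup G) (z : G) (κ : G → ℕ) (u ui : ℕ) (p : G) : Prop where
  nw : NW D Q z p
  κp : κ p = ap u 255
  mem : ∀ y ∈ Q z, y ∈ Q p ↔ inE (ap ui (κ y)) = true
  lex : ∀ l < 8, ∃ a ∈ Q p, Ac (Q z) z κ a (mm u (mm (trM l) ui))
  lof : ∀ a ∈ Q p, a * z = z * a → ∃ l < 8, Ac (Q z) z κ a (mm u (mm (trM l) ui))

/-- a frame for the pair `(z, d)` -/
structure PF (D : Set G) (Q : G → Subgroup G) (c : ℕ) (z d : G) (κ : G → ℕ) : Prop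
    extends LF D Q 4 where
  mx : MaxQ D Q
  irr : ¬ Redu Q z
  kf : KF (Q z) z c κ
  nw : NW D Q z d
  κd : κ d = 255
  mem : ∀ y ∈ Q z, y ∈ Q d ↔ inE (κ y) = true
  lex : ∀ l < 8, ∃ a ∈ Q d, Ac (Q z) z κ a (trM l)
  lof : ∀ a ∈ Q d, a * z = z * a → ∃ l < 8, Ac (Q z) z κ a (trM l)

/-- the configuration `a` for the orbit of `d` -/
structure Cs0 (D : Set G) (Q : G → Subgroup G) (a : Dat) (z d e : G) (κ : G → ℕ) : Prop
    extends PF D Q a.c z d κ where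
  ha : a ∈ dL
  re : Rl z d z e
  κe : κ e = 1
  pe : Pt D Q z κ a.τ a.τi e
  gs : ∀ M ∈ a.gs, ∃ g, Ac (Q z) z κ g M
  orb : ∀ y ∈ Q z, Rl z d z y ↔ bt a.oP (κ y) = true
  stab : ∀ g M, Ac (Q z) z κ g M → ap M 255 = 255 → ∃ l < 8, ∃ s ∈ a.SL, M = mm (trM l) s

/-- the configuration `a`, and the orbit of `d` is all of `D ∩ Q z ∖ {z}` -/
structure Cs (D : Set G) (Q : G → Subgroup G) (a : Dat) (z d e : G) (κ : G → ℕ) : Prop
    extends Cs0 D Q a z d e κ where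
  uni : ∀ y, NW D Q z y → Rl z d z y

/-- `t` is at distance at most two from `z` -/
def Near (D : Set G) (Q : G → Subgroup G) (z t : G) : Prop := ∃ p ∈ D, p ∈ Q z ∧ t ∈ Q p

/-- the value of a code -/
def tv (g : ℕ → G) (x : ℕ) : G := ev g (tw x)

/-- letters `0, ..., 4` are `a b c e z` -/
structure TM (Q : Subgroup G) (z : G) (c : ℕ) (κ : G → ℕ) (g : ℕ → G) : Prop where
  kf : KF Q z c κ
  gz : g 4 = z
  e_mem : g 3 ∈ Q
  κe : κ (g 3) = 1
  sq : ∀ i < 3, g i * g i = 1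
  cm : ∀ i < 3, ∀ j < 3, g i * g j = g j * g i
  ac : ∀ i < 3, Ac Q z κ (g i) (trM (2 ^ i))

/-- `t` acts on the codes below `512` by the table `I` -/
structure At (c : ℕ) (g : ℕ → G) (t : G) (I : List ℕ) : Prop where
  len : I.length = 8
  lt : ∀ x ∈ I, x < 512
  act : ∀ v < 512, t * tv g v * t⁻¹ = tv g (av c I v)

/-- The pinned letters `a b c e z g` (`0, ..., 5`) and the element `h` of odd order, which permutes
the `a_l` by `σ`; `b` lists the codes of `g a g`, `g b g`, `g c g`. -/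
structure Pn (D : Set G) (Q : G → Subgroup G) (a : Dat) (σ b : List ℕ) (n : ℕ) (z d : G)
    (κ : G → ℕ) (g : ℕ → G) (h : G) : Prop where
  cs : Cs D Q a z d (g 3) κ
  tm : TM (Q z) z a.c κ g
  gg : g 5 * g 5 = 1
  ge : (g 5 * g 3) ^ 3 = 1
  gz : g 5 * z * g 5 = d
  dv : tv g 255 = d
  ga : ∀ i < 3, g 5 * g i * g 5 = tv g (b.getD i 0)
  aQ : ∀ i < 3, g i ∈ Q d ∧ g i ∈ Q (g 5 * g 3 * g 5)
  gr : ∀ l < 8, g 5 * (tv g (512 * l) * (g 3 * tv g (512 * l) * g 3) * (g 5 * tv g (512 * l) * g 5)) * g 5 =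
    tv g (512 * l) * (g 3 * tv g (512 * l) * g 3) * (g 5 * tv g (512 * l) * g 5)
  hn : h ^ n = 1
  hz : h * z = z * h
  he : h * g 3 = g 3 * h
  hg : h * g 5 = g 5 * h
  ha : ∀ l < 8, h * tv g (512 * l) * h⁻¹ = tv g (512 * σ.getD l 0)

section Lin

variable {V : Type*} [AddCommGroup V] [Module (ZMod 2) V]

/-- dimension eight: `Λ x` consists of the Eichler transformations with centre `x` and vector in
`A x` -/
structure EB (q : QuadraticForm (ZMod 2) V) (Γ : Subgroup (V ≃ₗ[ZMod 2] V)) (O : Set V)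
    (E A : V → Submodule (ZMod 2) V) : Prop where
  nondeg : ∀ v, (∀ w, polar q v w = 0) → v = 0
  dim : finrank (ZMod 2) V = 8
  irr : IrrL Γ
  ne : O.Nonempty
  iso : ∀ g ∈ Γ, ∀ v, q (g v) = q v
  mem : ∀ g ∈ Γ, ∀ x ∈ O, g x ∈ O
  trans : ∀ x ∈ O, ∀ y ∈ O, ∃ g ∈ Γ, g x = y
  x_ne : ∀ x ∈ O, x ≠ 0
  xE : ∀ x ∈ O, x ∈ E x
  xA : ∀ x ∈ O, x ∈ A x
  sing : ∀ x ∈ O, ∀ e ∈ E x, q e = 0
  perp : ∀ x ∈ O, ∀ w ∈ A x, polar q x w = 0
  inf : ∀ x ∈ O, ∀ w ∈ A x, w ∈ E x → w = 0 ∨ w = x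
  sup : ∀ x ∈ O, ∀ y, polar q x y = 0 → ∃ w ∈ A x, y + w ∈ E x
  eqE : ∀ g ∈ Γ, ∀ x ∈ O, ∀ v ∈ E x, g v ∈ E (g x)
  eqA : ∀ g ∈ Γ, ∀ x ∈ O, ∀ v ∈ A x, g v ∈ A (g x)
  ecm : ∀ x ∈ O, ∀ w ∈ A x, ec q x w ∈ Γ

/-- `Γ = L₄(2) : 2` on `U ⊕ U'` -/
structure Sw4 (q : QuadraticForm (ZMod 2) V) (Γ : Subgroup (V ≃ₗ[ZMod 2] V)) (O : Set V)
    (U U' : Submodule (ZMod 2) V) : Prop where
  nondeg : ∀ v, (∀ w, polar q v w = 0) → v = 0
  dim : finrank (ZMod 2) V = 8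
  iso : ∀ g ∈ Γ, ∀ v, q (g v) = q v
  ts : ∀ u ∈ U, q u = 0
  ts' : ∀ u ∈ U', q u = 0
  dimU : finrank (ZMod 2) U = 4
  dimU' : finrank (ZMod 2) U' = 4
  disj : U ⊓ U' = ⊥
  orb : ∀ v, v ∈ O ↔ v ≠ 0 ∧ (v ∈ U ∨ v ∈ U')
  perm : ∀ g ∈ Γ, ((∀ u ∈ U, g u ∈ U) ∧ ∀ u ∈ U', g u ∈ U') ∨
    ((∀ u ∈ U, g u ∈ U') ∧ ∀ u ∈ U', g u ∈ U)
  full : ∀ φ : U ≃ₗ[ZMod 2] U, ∃ g ∈ Γ, (∀ u ∈ U', g u ∈ U') ∧ ∀ u : U, g u = φ u
  out : ∃ g ∈ Γ, ∀ u ∈ U, g u ∈ U'

/-- `V` is the free module for `Λ`: the orbit of some vector spans -/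
def Det (q : QuadraticForm (ZMod 2) V) (x : V) (Λ : Subgroup (V ≃ₗ[ZMod 2] V)) : Prop :=
  Nat.card Λ = 8 ∧ ∀ y, polar q x y ≠ 0 → Submodule.span (ZMod 2) {v | ∃ l ∈ Λ, l y = v} = ⊤

end Lin

/-- the vector of a code -/
def dv (v : ℕ) : Fin 8 → ZMod 2 := fun i => if v.testBit i then 1 else 0

end CL.LE.W
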