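import Cfsg.Agent.SPOR.LE.W.Enum0

set_option autoImplicit false

namespace CL.LE.W.K8.E1

def R : ℕ := 0xaaaaaaaaaaaaaaaaaaaaaaaaaaaaaaaaaaaaaaaaaaaaaaaaaaaaaaaaaaaaaaaaccccccccccccccccccccccccccccccccccccccccccccccccccccccccccccccccf0f0f0f0f0f0f0f0f0f0f0f0f0f0f0f0f0f0f0f0f0f0f0f0f0f0f0f0f0f0f0f0ff00ff00ff00ff00ff00ff00ff00ff00ff00ff00ff00ff00ff00ff00ff00ff00ffff0000ffff0000ffff0000ffff0000ffff0000ffff0000ffff0000ffff0000ffffffff00000000ffffffff00000000ffffffff00000000ffffffff00000000ffffffffffffffff0000000000000000ffffffffffffffff0000000000000000ffffffffffffffffffffffffffffffff00000000000000000000000000000000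
def X : ℕ := 0x96696969669999995aa5a5a5aa5555550000000000000000000000000000000096696969669999995aa5a5a5aa5555550000000000000000000000000000000096696969669999995aa5a5a5aa5555550000000000000000000000000000000096696969669999995aa5a5a5aa5555550000000000000000000000000000000096696969669999995aa5a5a5aa5555550000000000000000000000000000000096696969669999995aa5a5a5aa5555550000000000000000000000000000000096696969669999995aa5a5a5aa555555000000000000000000000000000000008000000000000000000000000000000000000000000000000000000000000000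
def S : List ℕ := [0x80ccaa96888482ff, 0x80f0aa96a09082ff, 0x80f0cc96c09084ff, 0x80f0ccaac0a088ff, 0x80fcfaf6eedebeff]
def KW : List (List ℕ × ℕ) := [([12, 1], 12), ([9, 6], 9), ([14, 6], 14), ([11, 1], 11), ([13, 7], 13), ([14, 2], 14), ([11, 4], 11), ([11, 5], 11), ([11, 1], 13), ([9, 1], 16), ([10, 7], 10), ([15, 7], 16), ([10, 2], 10), ([], 13), ([14, 3], 14)]

theorem par : Par 0x80 R 0x801020202010808 X := by decide +kernel

theorem run : dfs 0x80 R 0x801020202010808 (leaf 0x80 S KW) 8 0 0 X = true := by decide +kernel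

end CL.LE.W.K8.E1
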