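import Cfsg.Agent.SPOR.LE.W.Enum0

set_option autoImplicit false

namespace CL.LE.W.K8.E2

def R : ℕ := 0xffff00000000ffff0000ffffffff0000ffff00000000ffff0000ffffffff0000ffff00000000ffffffff00000000ffff0000ffffffff00000000ffffffff0000ffff0000ffff00000000ffff0000ffff0000ffff0000ffffffff0000ffff0000ffffffff0000000000000000ffffffff00000000ffffffffffffffff0000000096969696969696969696969696969696969696969696969696969696969696969966996699669966996699669966996699669966996699669966996699669966a55aa55aa55aa55aa55aa55aa55aa55aa55aa55aa55aa55aa55aa55aa55aa55ac33cc33cc33cc33cc33cc33cc33cc33cc33cc33cc33cc33cc33cc33cc33cc33c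
def X : ℕ := 0x81144228422842284228422842288114422842284228811442288114811481148114422842284228422842284228811442284228422881144228811481148114811442284228422842284228422881144228422842288114422881148114811481144228422842284228422842288114422842284228811442288114811481148114422842284228422842284228811442284228422881144228811481148114811442284228422842284228422881144228422842288114422881148114811481144228422842284228422842288114422842284228811442288114811481148000000000000000000000000000000000000000000000000000000000000000
def S : List ℕ := [0xeedebe0f797573ff, 0xdeee7e0fb9b5b3ff, 0xbe7eee0fd9d5d3ff, 0x7ebede0fe9e5e3ff]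
def KW : List (List ℕ × ℕ) := [([12, 7], 12), ([13, 7], 13), ([13, 6], 13), ([14, 7], 14), ([14, 6], 14), ([12, 6], 12), ([12, 5], 12), ([15, 6], 15), ([15, 7], 15), ([10, 1], 11), ([14, 5], 14), ([15, 5], 15)]

theorem par : Par 0xe R 0x404040802010808 X := by decide +kernel

theorem run : dfs 0xe R 0x404040802010808 (leaf 0xe S KW) 8 0 0 X = true := by decide +kernel

end CL.LE.W.K8.E2
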