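import Cfsg.Agent.SPOR.LE.W.Enum0

set_option autoImplicit false

namespace CL.LE.W.K8.E3

def R : ℕ := 0xff00ff0000ff00ff00ff00ffff00ff00ff00ff0000ff00ff00ff00ffff00ff00f0f00f0ff0f00f0ff0f00f0ff0f00f0f0f0ff0f00f0ff0f00f0ff0f00f0ff0f0cccc3333cccc3333cccc3333cccc33333333cccc3333cccc3333cccc3333ccccaaaaaaaa5555555555555555aaaaaaaaaaaaaaaa5555555555555555aaaaaaaac3c3c3c3c3c3c3c3c3c3c3c3c3c3c3c33c3c3c3c3c3c3c3c3c3c3c3c3c3c3c3caa55aa55aa55aa5555aa55aa55aa55aaaa55aa55aa55aa5555aa55aa55aa55aaaa55aa5555aa55aaaa55aa5555aa55aaaa55aa5555aa55aaaa55aa5555aa55aac3c33c3cc3c33c3cc3c33c3cc3c33c3cc3c33c3cc3c33c3cc3c33c3cc3c33c3c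
def X : ℕ := 0x82412828428118184281242482411414414114284242182442422418414128148241282842811818428124248241141441411428424218244242241841412814824128284281181842812424824114144141142842421824424224184141281482412828428118184281242482411414414114284242182442422418414128148241282842811818428124248241141441411428424218244242241841412814824128284281181842812424824114144141142842421824424224184141281482412828428118184281242482411414414114284242182442422418414128148000000000000000000000000000000000000000000000000000000000000000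
def S : List ℕ := [0x96422410180402ff]
def KW : List (List ℕ × ℕ) := [([13, 7], 13), ([14, 3], 14), ([15, 7], 15), ([11, 7], 11), ([15, 3], 15), ([15, 6], 15), ([15, 5], 15), ([11, 6], 11), ([11, 5], 11), ([11, 3], 11), ([14, 4], 14), ([14, 5], 14), ([15, 3], 16), ([14, 6], 14), ([10, 7], 10), ([11, 4], 11), ([10, 5], 16)]

theorem par : Par 0x16 R 0x808080208010808 X := by decide +kernel

theorem run : dfs 0x16 R 0x808080208010808 (leaf 0x16 S KW) 8 0 0 X = true := by decide +kernel

end CL.LE.W.K8.E3
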