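import Cfsg.Agent.SPOR.LE.W.Enum0

set_option autoImplicit false

namespace CL.LE.W.K8.E4

def R : ℕ := 0x9669699696696996966969969669699696696996966969969669699696696996966996696996699696699669699669969669966969966996966996696996699696699669966996696996699669966996966996699669966969966996699669969669966996699669966996699669966969966996699669966996699669966996aaaa55555555aaaa5555aaaaaaaa55555555aaaaaaaa5555aaaa55555555aaaacccc33333333cccc3333cccccccc33333333cccccccc3333cccc33333333ccccf0f00f0f0f0ff0f00f0ff0f0f0f00f0f0f0ff0f0f0f00f0ff0f00f0f0f0ff0f0ff0000ff00ffff0000ffff00ff0000ff00ffff00ff0000ffff0000ff00ffff00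
def X : ℕ := 0x9500005600569500005695006a0000a900566a00950000a9950000a900a995009500005600569500005695006a0000a900566a00950000a9950000a900a995009500005600569500005695006a0000a900566a00950000a9950000a900a995009500005600569500005695006a0000a900566a00950000a9950000a900a995009500005600569500005695006a0000a900566a00950000a9950000a900a995009500005600569500005695006a0000a900566a00950000a9950000a900a995009500005600569500005695006a0000a900566a00950000a9950000a900a995008000000000000000000000000000000000000000000000000000000000000000
def S : List ℕ := []
def KW : List (List ℕ × ℕ) := [([10, 1], 10), ([9, 1], 9), ([9, 2], 9), ([10, 2], 10), ([10, 7], 10), ([12, 3], 16), ([9, 2], 16), ([9, 5], 9), ([9, 1], 16), ([13, 2], 13), ([13, 1], 13), ([12, 2], 12), ([12, 1], 12), ([14, 1], 14), ([14, 2], 14), ([10, 1], 16), ([10, 2], 16), ([14, 1], 16), ([14, 2], 16), ([15, 1], 15), ([15, 2], 15), ([12, 3], 15), ([14, 3], 16)]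

theorem par : Par 0xf8 R 0x404040808010808 X := by decide +kernel

theorem run : dfs 0xf8 R 0x404040808010808 (leaf 0xf8 S KW) 8 0 0 X = true := by decide +kernel

end CL.LE.W.K8.E4
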