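import Cfsg.Agent.SPOR.LE.W.Enum0

set_option autoImplicit false

namespace CL.LE.W.K8.E5

def R : ℕ := 0x966969966996966969969669966969969669699669969669699696699669699696696996699696699669699669969669699696699669699669969669966969969669699696696996699696696996966969969669699696699669699696696996966996696996699669966996966996696996699696699669966996696996699696966969696996966969969696966969696996969696696996966969696996969966669966999966669999669966669966999966996666999966669966999966a55a5aa55aa5a55a5aa5a55aa55a5aa55aa5a55aa55a5aa5a55a5aa55aa5a55ac33c3cc33cc3c33c3cc3c33cc33c3cc33cc3c33cc33c3cc3c33c3cc33cc3c33c
def X : ℕ := 0x81141442144242281442422842282881144242284228288142282881288181148114144214424228144242284228288114424228422828814228288128818114811414421442422814424228422828811442422842282881422828812881811481141442144242281442422842282881144242284228288142282881288181148114144214424228144242284228288114424228422828814228288128818114811414421442422814424228422828811442422842282881422828812881811481141442144242281442422842282881144242284228288142282881288181148000000000000000000000000000000000000000000000000000000000000000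
def S : List ℕ := [0x20804008100402ff, 0x40208008100402ff, 0x80104008200402ff, 0x10408008200402ff, 0x80201008400402ff, 0x10802008400402ff, 0x20401008800402ff, 0x40102008800402ff]
def KW : List (List ℕ × ℕ) := [([9, 1], 16), ([9, 7], 10), ([10, 6], 16), ([9, 2], 16), ([9, 5], 16), ([9, 3], 16), ([9, 4], 16), ([11, 7], 12), ([11, 7], 16), ([9, 7], 11), ([10, 7], 11)]

theorem par : Par 0xfe R 0x404040202010808 X := by decide +kernel

theorem run : dfs 0xfe R 0x404040202010808 (leaf 0xfe S KW) 8 0 0 X = true := by decide +kernel

end CL.LE.W.K8.E5
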