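import Mathlib
import Cfsg.Agent.SPOR.CEPres

/-!
Width four: presentations.  Letters `0..5` are the involutions `a b c e z g`; the letters `6, 7`,
`8, 9`, ... are pairs `x, x⁻¹` of elements of odd order.
-/

set_option autoImplicit false

namespace CL.LE.W

/-- the letter of the inverse -/
def iv (a : ℕ) : ℕ := if a < 6 then a else a ^^^ 1

/-- the letters `0, ..., n - 1` as words -/
def ltrs (n : ℕ) : List (List ℕ) := (List.range n).map fun a => [a]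

/-- `Ω₈⁺(2)`; letters `a b c e z g r R s S t T`:
aa bb cc ee zz gg abab acac bcbc zaza zbzb zczc zeze eaeaeaea ebebebeb eabeabeabeab ecececec eaceaceaceac ebcebcebcebc eabceabceabceabcz rrr arar brbR crcR reReaea Reraea rzRz sss asaS bsbs cscS seSebeb Sesbeb szSz ttt ataT btbT ctct teTecec Tetcec tzTz rsRS rtRT stST gegege gageaea gbgebeb gcgecec gzgebecebeaebecebea gargargar gbsgbsgbs gctgctgct -/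
def RD : List (List ℕ) := [
  [0,0], [1,1], [2,2], [3,3], [4,4], [5,5], [0,1,0,1], [0,2,0,2], [1,2,1,2], [4,0,4,0], [4,1,4,1], [4,2,4,2],
  [4,3,4,3], [3,0,3,0,3,0,3,0], [3,1,3,1,3,1,3,1], [3,0,1,3,0,1,3,0,1,3,0,1], [3,2,3,2,3,2,3,2],
  [3,0,2,3,0,2,3,0,2,3,0,2], [3,1,2,3,1,2,3,1,2,3,1,2], [3,0,1,2,3,0,1,2,3,0,1,2,3,0,1,2,4], [6,6,6],
  [0,6,0,6], [1,6,1,7], [2,6,2,7], [6,3,7,3,0,3,0], [7,3,6,0,3,0], [6,4,7,4], [8,8,8], [0,8,0,9], [1,8,1,8],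
  [2,8,2,9], [8,3,9,3,1,3,1], [9,3,8,1,3,1], [8,4,9,4], [10,10,10], [0,10,0,11], [1,10,1,11], [2,10,2,10],
  [10,3,11,3,2,3,2], [11,3,10,2,3,2], [10,4,11,4], [6,8,7,9], [6,10,7,11], [8,10,9,11], [5,3,5,3,5,3],
  [5,0,5,3,0,3,0], [5,1,5,3,1,3,1], [5,2,5,3,2,3,2], [5,4,5,3,1,3,2,3,1,3,0,3,1,3,2,3,1,3,0],
  [5,0,6,5,0,6,5,0,6], [5,1,8,5,1,8,5,1,8], [5,2,10,5,2,10,5,2,10]]

/-- `PΩ₈⁺(3)` is `RD ++ RP`; letters `a b c e z g r R s S t T v V u U k K`: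
vvv avav bvbv cvcv veVzececbebaea Vevzcecbebaea vzVz rvRV svSV tvTV bceaebczgavbceaebczgavbceaebczgav zgarbsctegeTcSbRagU vuVUK kvKV kuKU -/
def RP : List (List ℕ) := [
  [12,12,12], [0,12,0,12], [1,12,1,12], [2,12,2,12], [12,3,13,4,3,2,3,2,1,3,1,0,3,0],
  [13,3,12,4,2,3,2,1,3,1,0,3,0], [12,4,13,4], [6,12,7,13], [8,12,9,13], [10,12,11,13],
  [1,2,3,0,3,1,2,4,5,0,12,1,2,3,0,3,1,2,4,5,0,12,1,2,3,0,3,1,2,4,5,0,12],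
  [4,5,0,6,1,8,2,10,3,5,3,11,2,9,1,7,0,5,15], [12,14,13,15,17], [16,12,17,13], [16,14,17,15]]

/-- `Ω₈⁻(2)`; letters `a b c e z g h H r R s S`:
aa bb cc ee zz gg abab acac bcbc zaza zbzb zczc zeze eaeaeaeaz ebebebebz eabeabeabeab ececececz eaceaceaceac ebcebcebcebc eabceabceabceabc hhh heHe hzHz haHb hbHc hcHa rrr rzRz reRecbaecba Rercbaecba sss szSz seSecaebaecaeba Sesbaeba abcrabcr abrabR acracR bcrbcR rhRH rsRS absabs abcsabcS abshabsh gegege gagzecaebeceba gbgzecbeaeceba gcgzecbeaebeca gzgebecebeaebecebea ghgH gabcrgabcrgabcr gabsgabsgabsgabs -/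
def RM : List (List ℕ) := [
  [0,0], [1,1], [2,2], [3,3], [4,4], [5,5], [0,1,0,1], [0,2,0,2], [1,2,1,2], [4,0,4,0], [4,1,4,1], [4,2,4,2],
  [4,3,4,3], [3,0,3,0,3,0,3,0,4], [3,1,3,1,3,1,3,1,4], [3,0,1,3,0,1,3,0,1,3,0,1], [3,2,3,2,3,2,3,2,4],
  [3,0,2,3,0,2,3,0,2,3,0,2], [3,1,2,3,1,2,3,1,2,3,1,2], [3,0,1,2,3,0,1,2,3,0,1,2,3,0,1,2], [6,6,6],
  [6,3,7,3], [6,4,7,4], [6,0,7,1], [6,1,7,2], [6,2,7,0], [8,8,8], [8,4,9,4], [8,3,9,3,2,1,0,3,2,1,0],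
  [9,3,8,2,1,0,3,2,1,0], [10,10,10], [10,4,11,4], [10,3,11,3,2,0,3,1,0,3,2,0,3,1,0], [11,3,10,1,0,3,1,0],
  [0,1,2,8,0,1,2,8], [0,1,8,0,1,9], [0,2,8,0,2,9], [1,2,8,1,2,9], [8,6,9,7], [8,10,9,11], [0,1,10,0,1,10],
  [0,1,2,10,0,1,2,11], [0,1,10,6,0,1,10,6], [5,3,5,3,5,3], [5,0,5,4,3,2,0,3,1,3,2,3,1,0],
  [5,1,5,4,3,2,1,3,0,3,2,3,1,0], [5,2,5,4,3,2,1,3,0,3,1,3,2,0], [5,4,5,3,1,3,2,3,1,3,0,3,1,3,2,3,1,3,0],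
  [5,6,5,7], [5,0,1,2,8,5,0,1,2,8,5,0,1,2,8], [5,0,1,10,5,0,1,10,5,0,1,10,5,0,1,10]]

/-- the amalgam of parabolics of `³D₄(2)`; letters `a b c e z g h H s S`:
aa bb cc ee zz gg abab acac bcbc zaza zbzb zczc zeze eaeaeaeaz ebebebebz eabeabeabeabz ececececz eaceaceaceacz ebcebcebcebcz eabceabceabceabcz hhhhhhh heHe hzHz haHca hbHba hcHcba sss szSz seSebecebeaebecebea Sesaea asas ashash ghgH gegege gagzcebaecebea gbgceaecebaeb gcgcaeaebecaeba gzgebecebeaebecebea -/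
def RT : List (List ℕ) := [
  [0,0], [1,1], [2,2], [3,3], [4,4], [5,5], [0,1,0,1], [0,2,0,2], [1,2,1,2], [4,0,4,0], [4,1,4,1], [4,2,4,2],
  [4,3,4,3], [3,0,3,0,3,0,3,0,4], [3,1,3,1,3,1,3,1,4], [3,0,1,3,0,1,3,0,1,3,0,1,4], [3,2,3,2,3,2,3,2,4],
  [3,0,2,3,0,2,3,0,2,3,0,2,4], [3,1,2,3,1,2,3,1,2,3,1,2,4], [3,0,1,2,3,0,1,2,3,0,1,2,3,0,1,2,4],
  [6,6,6,6,6,6,6], [6,3,7,3], [6,4,7,4], [6,0,7,2,0], [6,1,7,1,0], [6,2,7,2,1,0], [8,8,8], [8,4,9,4],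
  [8,3,9,3,1,3,2,3,1,3,0,3,1,3,2,3,1,3,0], [9,3,8,0,3,0], [0,8,0,8], [0,8,6,0,8,6], [5,6,5,7], [5,3,5,3,5,3],
  [5,0,5,4,2,3,1,0,3,2,3,1,3,0], [5,1,5,2,3,0,3,2,3,1,0,3,1], [5,2,5,2,0,3,0,3,1,3,2,0,3,1,0],
  [5,4,5,3,1,3,2,3,1,3,0,3,1,3,2,3,1,3,0]]

/-- `f g` with `f = (a s) g (a s)` -/
def wA : List ℕ := [0,8,5,0,8,5]

/-- `d g f` with `d = g z g` -/
def wC : List ℕ := [5,4,5,5,0,8,5,0,8]

end CL.LE.W
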