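import Mathlib
import Cfsg.Agent.SPOR.LE.W.Alg
import Cfsg.Agent.PERM.PMat

/-! Fast products of codes and the test which kills a frame. -/

set_option autoImplicit false

namespace CL.LE.W.K8

open CL.K

noncomputable def band (a b : Bool) : Bool := Bool.rec (motive := fun _ => Bool) false b a
noncomputable def bor (a b : Bool) : Bool := Bool.rec (motive := fun _ => Bool) b true a
noncomputable def bimp (a b : Bool) : Bool := Bool.rec (motive := fun _ => Bool) true b a
noncomputable def nbeq (a b : ℕ) : Bool := Bool.rec (motive := fun _ => Bool) true false (Nat.beq a b)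

theorem band_iff {a b : Bool} : band a b = true ↔ a = true ∧ b = true := by cases a <;> simp [band]
theorem bor_iff {a b : Bool} : bor a b = true ↔ a = true ∨ b = true := by cases a <;> simp [bor]
theorem bimp_iff {a b : Bool} : bimp a b = true ↔ (a = true → b = true) := by cases a <;> simp [bimp]
theorem nbeq_iff {a b : ℕ} : nbeq a b = true ↔ a ≠ b := by
  rw [nbeq, Ne, ← Nat.beq_eq]; cases Nat.beq a b <;> simp

noncomputable def anyL {α : Type} (p : α → Bool) (l : List α) : Bool :=
  List.rec (motive := fun _ => Bool) false (fun a _ ih => bor (p a) ih) l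
noncomputable def allL {α : Type} (p : α → Bool) (l : List α) : Bool :=
  List.rec (motive := fun _ => Bool) true (fun a _ ih => band (p a) ih) l

theorem anyL_iff {α : Type} {p : α → Bool} {l : List α} : anyL p l = true ↔ ∃ a ∈ l, p a = true := by
  induction l with
  | nil => simp [anyL]
  | cons a l ih => exact bor_iff.trans (by rw [List.exists_mem_cons_iff]; exact or_congr Iff.rfl ih)

theorem allL_iff {α : Type} {p : α → Bool} {l : List α} : allL p l = true ↔ ∀ a ∈ l, p a = true := by
  induction l with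
  | nil => simp [allL]
  | cons a l ih => exact band_iff.trans (by rw [List.forall_mem_cons]; exact and_congr Iff.rfl ih)

/-- one term of the fast product -/
def ft (M N k : ℕ) : ℕ := Nat.mul (Nat.land (Nat.shiftRight N k) 0x0101010101010101) (col M k)

/-- the fast product -/
noncomputable def fm (M N : ℕ) : ℕ := force M fun M => force N fun N =>
  Nat.xor (Nat.xor
    (Nat.xor (Nat.mul (Nat.land N 0x0101010101010101) (Nat.land M 255))
      (Nat.mul (Nat.land (Nat.shiftRight N 1) 0x0101010101010101) (Nat.land (Nat.shiftRight M 8) 255)))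
    (Nat.xor (Nat.mul (Nat.land (Nat.shiftRight N 2) 0x0101010101010101) (Nat.land (Nat.shiftRight M 16) 255))
      (Nat.mul (Nat.land (Nat.shiftRight N 3) 0x0101010101010101) (Nat.land (Nat.shiftRight M 24) 255))))
    (Nat.xor
    (Nat.xor (Nat.mul (Nat.land (Nat.shiftRight N 4) 0x0101010101010101) (Nat.land (Nat.shiftRight M 32) 255))
      (Nat.mul (Nat.land (Nat.shiftRight N 5) 0x0101010101010101) (Nat.land (Nat.shiftRight M 40) 255)))
    (Nat.xor (Nat.mul (Nat.land (Nat.shiftRight N 6) 0x0101010101010101) (Nat.land (Nat.shiftRight M 48) 255))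
      (Nat.mul (Nat.land (Nat.shiftRight N 7) 0x0101010101010101) (Nat.land (Nat.shiftRight M 56) 255))))

theorem col_eq (M i : ℕ) : col M i = fld 8 (2 ^ 8 - 1) M i := rfl

theorem testBit_col (M i j : ℕ) : (col M i).testBit j = (decide (j < 8) && M.testBit (8 * i + j)) :=
  testBit_fld 8 M i j

theorem col_xor (a b i : ℕ) : col (Nat.xor a b) i = Nat.xor (col a i) (col b i) := by
  refine Nat.eq_of_testBit_eq fun j => ?_
  change (col (a ^^^ b) i).testBit j = (col a i ^^^ col b i).testBit j
  simp only [Nat.testBit_xor, testBit_col, Bool.and_xor_distrib_left]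

theorem ft_eq (M N : ℕ) {k : ℕ} (hk : k < 8) : ft M N k = PM.pack 8 8 fun i => bit (col N i) k * col M k := by
  rw [← PM.pack_mul_const]
  refine congrArg (· * col M k) (PM.eq_of_testBit_lanes (w := 8) (by norm_num) fun t j hj => ?_)
  have hb : ∀ t, bit (col N t) k < 2 ^ 8 := fun t => by rw [bit_eq]; split_ifs <;> norm_num
  change ((N >>> k) &&& _).testBit _ = _
  rw [Nat.testBit_and, show (0x0101010101010101 : ℕ) = PM.pack 8 8 fun _ => 1 by decide +kernel,
    PM.testBit_pack 8 (fun _ _ => by norm_num) t j hj, PM.testBit_pack 8 (fun t _ => hb t) t j hj,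
    Nat.testBit_shiftRight, bit_eq, testBit_col]
  rcases Nat.eq_zero_or_pos j with rfl | h
  · rw [add_zero, add_comm k]
    cases N.testBit (8 * t + k) <;> simp [hk]
  · have : Nat.testBit 1 j = false := Nat.testBit_lt_two_pow (Nat.one_lt_two_pow h.ne')
    split_ifs <;> simp [this]

theorem ft_spec (M N : ℕ) {k : ℕ} (hk : k < 8) :
    ft M N k < 2 ^ 64 ∧ ∀ i < 8, col (ft M N k) i = Nat.mul (bit (col N i) k) (col M k) := by
  have hb : ∀ t < 8, bit (col N t) k * col M k < 2 ^ 8 := fun t _ => by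
    have := col_lt M k
    rw [bit_eq]; split_ifs <;> omega
  rw [ft_eq M N hk]
  refine ⟨Nat.lt_pow_two_of_testBit _ fun i hi => ?_, fun i hi => PM.fld_pack hb hi⟩
  rw [← Nat.div_add_mod i 8, PM.testBit_pack 8 hb _ _ (Nat.mod_lt _ (by norm_num)),
    decide_eq_false (by omega), Bool.false_and]

theorem col_mm (M N : ℕ) {i : ℕ} (hi : i < 8) : col (mm M N) i = ap M (col N i) := by
  rw [← ap_pow hi, ap_mm, ap_pow hi]

theorem fm_eq (M N : ℕ) : fm M N = mm M N := by
  have e : fm M N = Nat.xor (Nat.xor (Nat.xor (ft M N 0) (ft M N 1)) (Nat.xor (ft M N 2) (ft M N 3)))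
      (Nat.xor (Nat.xor (ft M N 4) (ft M N 5)) (Nat.xor (ft M N 6) (ft M N 7))) := by
    rw [fm, force_eq, force_eq]; rfl
  have x : ∀ {a b : ℕ}, a < 2 ^ 64 → b < 2 ^ 64 → Nat.xor a b < 2 ^ 64 := Nat.xor_lt_two_pow
  have s := fun k => @ft_spec M N k
  refine mat_ext ?_ (mm_lt _ _) fun i hi => ?_
  · rw [e]
    exact x (x (x (s 0 (by norm_num)).1 (s 1 (by norm_num)).1) (x (s 2 (by norm_num)).1 (s 3 (by norm_num)).1))
      (x (x (s 4 (by norm_num)).1 (s 5 (by norm_num)).1) (x (s 6 (by norm_num)).1 (s 7 (by norm_num)).1))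
  · rw [ap_pow hi, ap_pow hi, col_mm _ _ hi, e]
    simp only [col_xor]
    rw [(s 0 (by norm_num)).2 i hi, (s 1 (by norm_num)).2 i hi, (s 2 (by norm_num)).2 i hi, (s 3 (by norm_num)).2 i hi,
      (s 4 (by norm_num)).2 i hi, (s 5 (by norm_num)).2 i hi, (s 6 (by norm_num)).2 i hi, (s 7 (by norm_num)).2 i hi]
    rfl

/-- generators of the stabilizers in `Λ` of the vectors of `E` -/
def FX : ℕ := 0x16000000000000000000000000000006000000000000000000000000000000000000000000000000000000000000000000000012000000000000000042000000000000000000000000000000000000000000000000140000000024000000000000000000000018000028000000000000000000000000000000000000000000000000000000000000000000000000000000000000000028000018000000000000000000000024000000001400000000000000000000000000000000000000000000000042000000000000000012000000000000000000000000000000000000000000000000000000000000000000000006000000000000000000000000000000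

noncomputable def okE (p A : ℕ) : Bool := force A fun A => allLt (fun i => force (col A i) fun v =>
  bimp (inE v) (bor (Nat.beq v 0) (bor (Nat.beq v 255) (bor (Nat.beq v p) (Nat.beq v (Nat.xor p 255)))))) 8

noncomputable def noM (A u : ℕ) : Bool := force A fun A => force (col A 0) fun a =>
  allLt (fun m => bor (nbeq a (col u m)) (nbeq A (fm u (trM m)))) 8

/-- no frame passes this test -/
noncomputable def kil (u : ℕ) : Bool := force u fun u => force (ap u 255) fun p => force (col FX p) fun g =>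
  band (nbeq g 0) (band (bor (Nat.beq p 255) (band (okE p (fm u 0x69665a553c330f00)) (okE p (fm u 0xfff0ccc3aaa59996))))
    (anyLt (fun l => band (bt g l) (noM (fm (trM l) u) u)) 8))

variable {c : ℕ} {P : ℕ → ℕ → Prop} {Γ : ℕ → Prop}

theorem not_kil (h : NC c P Γ) {u ui : ℕ} (hP : P u ui) : kil u ≠ true := by
  intro k
  simp only [kil, force_eq, band_iff, bor_iff, anyLt_iff, Nat.beq_eq, fm_eq] at k
  obtain ⟨-, k1, l, hl, k2, k3⟩ := k
  obtain ⟨f1, f2⟩ := (by decide +kernel : ∀ p < 256, ∀ l < 8, bt (col FX p) l = true →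
    inE p = true ∧ ap (trM l) p = p) _ (ap_lt u 255) l hl k2
  have I := h.pis _ _ hP
  have key : ∃ m < 8, mm (trM l) u = mm u (trM m) := by
    by_cases e : ap u 255 = 255
    · exact (h.c1 _ _ hP e).L' hl
    refine h.w1 _ _ hP f1 e (fun v hv _ h2 => ?_) l hl f2
    obtain ⟨k4, k5⟩ := k1.resolve_left e
    simp only [okE, force_eq, allLt_iff, bimp_iff, bor_iff, Nat.beq_eq] at k4 k5
    obtain ⟨i, hi, e | e⟩ := (by decide +kernel : ∀ w < 256, inE w = true →
      ∃ i < 8, w = col 0x69665a553c330f00 i ∨ w = col 0xfff0ccc3aaa59996 i) _ (ap_lt ui v) h2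
    · have := k4 i hi
      rw [col_mm _ _ hi, ← e, I.ap_ap hv] at this
      exact this ‹_›
    · have := k5 i hi
      rw [col_mm _ _ hi, ← e, I.ap_ap hv] at this
      exact this ‹_›
  obtain ⟨m, hm, e⟩ := key
  simp only [noM, force_eq, allLt_iff, bor_iff, nbeq_iff, fm_eq] at k3
  refine (k3 m hm).elim (fun n => n ?_) fun n => n e
  rw [e, col_mm _ _ (by norm_num), ← ap_pow (M := trM m) (by norm_num), ap_trM hm (by norm_num), Nat.zero_xor, ap_pow hm]

/-- the product of the letters `g a` along `w`, times `b` -/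
noncomputable def wd (g : ℕ → ℕ) (w : List ℕ) (b : ℕ) : ℕ :=
  List.rec (motive := fun _ => ℕ) b (fun a _ ih => fm (g a) ih) w

theorem wd_nil (g : ℕ → ℕ) (b : ℕ) : wd g [] b = b := rfl
theorem wd_cons (g : ℕ → ℕ) (a : ℕ) (w : List ℕ) (b : ℕ) : wd g (a :: w) b = mm (g a) (wd g w b) := fm_eq _ _

theorem act' (h : NC c P Γ) {M u : ℕ} (hM : Γ M) (hP : ∃ ui, P u ui) : ∃ vi, P (mm M u) vi := by
  obtain ⟨ui, hP⟩ := hP
  obtain ⟨N, -, I⟩ := h.inv M hM
  exact ⟨_, h.act _ _ _ _ hM I hP⟩

theorem gam_lt (h : NC c P Γ) {M : ℕ} (hM : Γ M) : M < 2 ^ 64 := (h.inv M hM).choose_spec.2.lt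

theorem p_gam (h : NC c P Γ) {M : ℕ} (hM : Γ M) : ∃ N, P M N := by
  have := act' h hM ⟨_, h.pid⟩
  rwa [mm_id (gam_lt h hM)] at this

theorem gam_tr (h : NC c P Γ) {l : ℕ} (hl : l < 8) : Γ (trM l) := by
  have := h.gam _ _ h.pid l hl
  rwa [mm_id (trM_lt l), id_mm (trM_lt l)] at this

theorem wd_p (h : NC c P Γ) {g : ℕ → ℕ} {w : List ℕ} (hg : ∀ a ∈ w, Γ (g a)) {b : ℕ} (hb : ∃ bi, P b bi) :
    ∃ vi, P (wd g w b) vi := by
  induction w with
  | nil => exact hb
  | cons a w ih =>
    rw [wd_cons]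
    exact act' h (hg a List.mem_cons_self) (ih fun a ha => hg a (List.mem_cons_of_mem _ ha))

theorem wd_gam (h : NC c P Γ) {g : ℕ → ℕ} {w : List ℕ} (hg : ∀ a ∈ w, Γ (g a)) {b : ℕ} (hb : Γ b) : Γ (wd g w b) := by
  induction w with
  | nil => exact hb
  | cons a w ih =>
    rw [wd_cons]
    exact h.mul _ _ (hg a List.mem_cons_self) (ih fun a ha => hg a (List.mem_cons_of_mem _ ha))

/-- the transposed matrix -/
noncomputable def tp (x : ℕ) : ℕ :=
  force (Nat.land (Nat.xor x (Nat.shiftRight x 7)) 0x00AA00AA00AA00AA) fun t =>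
  force (Nat.xor (Nat.xor x t) (Nat.shiftLeft t 7)) fun x =>
  force (Nat.land (Nat.xor x (Nat.shiftRight x 14)) 0x0000CCCC0000CCCC) fun t =>
  force (Nat.xor (Nat.xor x t) (Nat.shiftLeft t 14)) fun x =>
  force (Nat.land (Nat.xor x (Nat.shiftRight x 28)) 0x00000000F0F0F0F0) fun t =>
  Nat.xor (Nat.xor x t) (Nat.shiftLeft t 28)

/-- the Gram matrix, an involution -/
def gm (c : ℕ) : ℕ :=
  sel c 0x0102040810204080 0x70b0d0e0070b0d0e 0x6894926186492916 0x1f2f4f8ff1f2f4f8 0x7fbfdfeff7fbfdfe

/-- the inverse of an isometry -/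
noncomputable def inv (c M : ℕ) : ℕ := fm (gm c) (fm (tp M) (gm c))

theorem inv_lt (c M : ℕ) : inv c M < 2 ^ 64 := by rw [inv, fm_eq]; exact mm_lt _ _

theorem eq_inv {M N N' : ℕ} (h : Is c M N) (hN : N' < 2 ^ 64) (e : mm M N' = idM) : N = N' := by
  rw [← mm_id h.lt', ← e, ← mm_assoc, h.mul', id_mm hN]

end CL.LE.W.K8
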