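import Mathlib
import Cfsg.Agent.SPOR.LE.W.Kil

/-! The depth first search over the columns of a frame. -/

set_option autoImplicit false

namespace CL.LE.W.K8

open CL.K

/-- the lowest set bit of a number below `2 ^ 256` -/
def low (m : ℕ) : ℕ := col 0x8586f28749f39888534a5ff40799b689ee54584b006029f50d08c09a34b77c8accef5c55bd59744c41007761172aa5f6ab0e4f093dc1239bc53544b8917d668bd7cd00f0965db45627be7a5a7275a34d21426400b278a1629f181a2be9a61cf7ffac2d0f8250eb0ac93ea8c2d4241e9cfcc6f936e14500b93992ae7edd672f8ce4d811ce6b0084f14897525e06b5ed5700280cbf337bcb5bbc73407616a4aa4e3c22c4439065d60095b3267971a22063b1a09e19e81bfe2c81eac8a7d31dfbf8e00038addc2ee3106a83475105ec000b32cabb3f15a93bc38fd59425701fb09de7fd80c7d2fadf37dbe26946040031ba143a8e936fafe67fd1deda680330138d6ee5d0d902126dcf016c0000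
  (Nat.mod (Nat.xor m (Nat.sub m 1)) 269)

/-- `f` holds at all set bits above the low `64` (these only serve to spread the hash values) -/
noncomputable def allB (f : ℕ → Bool) (fuel : ℕ) : ℕ → Bool :=
  Nat.rec (motive := fun _ => ℕ → Bool) (fun _ => false)
    (fun _ ih m => force m fun m => bor (Nat.ble m 0xffffffffffffffff) (force (low (Nat.shiftRight m 64)) fun v =>
      band (f v) (ih (Nat.xor m (Nat.shiftLeft 0x10000000000000000 v))))) fuel

theorem allB_spec {f : ℕ → Bool} {fuel : ℕ} :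
    ∀ {m : ℕ}, allB f fuel m = true → ∀ v, m.testBit (64 + v) = true → f v = true := by
  induction fuel with
  | zero => intro m h; exact absurd h Bool.false_ne_true
  | succ n ih =>
    intro m h v hv
    change force m (fun m => bor (Nat.ble m 0xffffffffffffffff) (force (low (Nat.shiftRight m 64)) fun v =>
      band (f v) (allB f n (Nat.xor m (Nat.shiftLeft 0x10000000000000000 v))))) = true at h
    simp only [force_eq, bor_iff, band_iff, Nat.ble_eq] at h
    rcases h with h | ⟨h1, h2⟩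
    · rw [Nat.testBit_lt_two_pow (lt_of_lt_of_le (show m < 2 ^ 64 by omega)
        (Nat.pow_le_pow_right two_pos (by omega)))] at hv
      exact absurd hv Bool.false_ne_true
    generalize low (Nat.shiftRight m 64) = w at h1 h2
    by_cases e : w = v
    · exact e ▸ h1
    refine ih h2 v ?_
    change (m ^^^ 2 ^ 64 <<< w).testBit _ = true
    rw [Nat.shiftLeft_eq, ← pow_add, Nat.testBit_xor, hv, Nat.testBit_two_pow_of_ne (by omega)]; rfl

def lane (X k : ℕ) : ℕ := Nat.land (Nat.shiftRight X (Nat.mul 256 k))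
  0xffffffffffffffffffffffffffffffffffffffffffffffffffffffffffffffff

theorem testBit_lane (X k : ℕ) {j : ℕ} (hj : j < 256) : (lane X k).testBit j = X.testBit (256 * k + j) := by
  have := testBit_fld 256 X k j
  rwa [decide_eq_true hj, Bool.true_and] at this

theorem lane_lt (X k : ℕ) : lane X k < 2 ^ 256 := PM.fld_lt 256 X k

/-- the combination of the lanes of `R` -/
def bm (R v : ℕ) : ℕ :=
  Nat.xor (Nat.xor (Nat.xor (Nat.mul (bit v 0) (lane R 0)) (Nat.mul (bit v 1) (lane R 1)))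
      (Nat.xor (Nat.mul (bit v 2) (lane R 2)) (Nat.mul (bit v 3) (lane R 3))))
    (Nat.xor (Nat.xor (Nat.mul (bit v 4) (lane R 4)) (Nat.mul (bit v 5) (lane R 5)))
      (Nat.xor (Nat.mul (bit v 6) (lane R 6)) (Nat.mul (bit v 7) (lane R 7))))

theorem bit_mul_xor (u v i r : ℕ) : Nat.mul (bit (u ^^^ v) i) r = Nat.mul (bit u i) r ^^^ Nat.mul (bit v i) r := by
  simp only [bit_eq, Nat.testBit_xor, Nat.mul_eq]
  cases u.testBit i <;> cases v.testBit i <;> simp

theorem bm_xor (R u v : ℕ) : bm R (u ^^^ v) = bm R u ^^^ bm R v := by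
  simp only [bm, bit_mul_xor, Nat.xor_eq]
  ac_rfl

theorem bm_lt (R v : ℕ) : bm R v < 2 ^ 256 := by
  have x : ∀ {a b : ℕ}, a < 2 ^ 256 → b < 2 ^ 256 → Nat.xor a b < 2 ^ 256 := Nat.xor_lt_two_pow
  have s : ∀ i, Nat.mul (bit v i) (lane R i) < 2 ^ 256 := fun i => by
    have := lane_lt R i
    rw [bit_eq, Nat.mul_eq]; split_ifs <;> omega
  exact x (x (x (s 0) (s 1)) (x (s 2) (s 3))) (x (x (s 4) (s 5)) (x (s 6) (s 7)))

def rep : ℕ := 0x10000000000000000000000000000000000000000000000000000000000000001000000000000000000000000000000000000000000000000000000000000000100000000000000000000000000000000000000000000000000000000000000010000000000000000000000000000000000000000000000000000000000000001000000000000000000000000000000000000000000000000000000000000000100000000000000000000000000000000000000000000000000000000000000010000000000000000000000000000000000000000000000000000000000000001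

/-- the lanes `k'` with `c (k xor k') = 0` -/
noncomputable def nm (c k : ℕ) : ℕ := sumLt (fun t => bif bt c (Nat.xor k t) then 0 else
  Nat.shiftLeft 0xffffffffffffffffffffffffffffffffffffffffffffffffffffffffffffffff (Nat.mul 256 t)) 8

theorem testBit_nm (c k : ℕ) {t j : ℕ} (ht : t < 8) (hj : j < 256) :
    (nm c k).testBit (256 * t + j) = !c.testBit (k ^^^ t) := by
  have : nm c k = PM.pack 256 8 fun t => bif c.testBit (k ^^^ t) then 0 else 2 ^ 256 - 1 := by
    rw [nm, sumLt_eq]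
    refine Finset.sum_congr rfl fun t _ => ?_
    beta_reduce
    rw [bt_eq, Nat.xor_eq]
    cases c.testBit (k ^^^ t)
    · exact Nat.shiftLeft_eq _ _
    · exact (zero_mul _).symm
  rw [this, PM.testBit_pack 8 (fun t _ => by cases c.testBit (k ^^^ t) <;> simp) t j hj]
  cases c.testBit (k ^^^ t) <;> simp [ht, hj, -Nat.reducePow]

theorem testBit_rep {b t j : ℕ} (hb : b < 2 ^ 256) (ht : t < 8) (hj : j < 256) :
    (Nat.mul rep b).testBit (256 * t + j) = b.testBit j := by
  rw [show rep = PM.pack 256 8 fun _ => 1 by decide +kernel, Nat.mul_eq, PM.pack_mul_const,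
    PM.testBit_pack 8 (fun _ _ => by rwa [one_mul]) t j hj, one_mul, decide_eq_true ht, Bool.true_and]

/-- the search; `n` columns are left, `k` is the next one -/
noncomputable def dfs (c R lo : ℕ) (leaf : ℕ → Bool) (n : ℕ) : ℕ → ℕ → ℕ → Bool :=
  Nat.rec (motive := fun _ => ℕ → ℕ → ℕ → Bool) (fun _ M _ => leaf M)
    (fun _ ih k M X => force k fun k => force M fun M => force X fun X => force (col M (col lo k)) fun t =>
      force (nm c k) fun N => allB (fun v => force (Nat.add M (Nat.shiftLeft v (Nat.mul 8 k))) fun M' =>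
        ih (Nat.succ k) M' (Nat.lor (Nat.land X (Nat.xor (Nat.mul rep (bm R v)) N)) M')) 64
        (Nat.lor (Nat.shiftLeft (Nat.shiftRight (lane X k) t) (Nat.add 64 t)) M)) n

theorem col_mod_le (τ k j : ℕ) : col (τ % 2 ^ k) j ≤ col τ j := by
  refine Nat.le_of_testBit fun i hi => ?_
  simp only [testBit_col, Nat.testBit_mod_two_pow, Bool.and_eq_true] at hi ⊢
  exact ⟨hi.1, hi.2.2⟩

theorem dfs_spec {c R lo τ : ℕ} {leaf : ℕ → Bool} (hR : ∀ v < 256, ∀ w < 256, (bm R v).testBit w = bc c v w)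
    (hτ : τ < 2 ^ 64) (hb : ∀ i < 8, ∀ j < 8, bc c (col τ i) (col τ j) = c.testBit (i ^^^ j))
    (hlo : ∀ k < 8, col τ (col lo k) ≤ col τ k) : ∀ n k X, k + n = 8 →
      (∀ j < 8, X.testBit (256 * j + col τ j) = true) → dfs c R lo leaf n k (τ % 2 ^ (8 * k)) X = true →
      leaf τ = true := by
  intro n
  induction n with
  | zero =>
    intro k X e _ h
    obtain rfl : k = 8 := e
    rwa [Nat.mod_eq_of_lt hτ] at h
  | succ n ih =>
    intro k X e hX h
    have hk : k < 8 := by omega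
    change force k (fun k => force _ fun M => force X fun X => force (col M (col lo k)) fun t =>
      force (nm c k) fun N => allB (fun v => force (Nat.add M (Nat.shiftLeft v (Nat.mul 8 k))) fun M' =>
        dfs c R lo leaf n (Nat.succ k) M' (Nat.lor (Nat.land X (Nat.xor (Nat.mul rep (bm R v)) N)) M')) 64
        (Nat.lor (Nat.shiftLeft (Nat.shiftRight (lane X k) t) (Nat.add 64 t)) M)) = true at h
    simp only [force_eq] at h
    have h1 := (col_mod_le τ (8 * k) (col lo k)).trans (hlo k hk)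
    have h2 := allB_spec h (col τ k) (by
      change (((lane X k >>> _) <<< (64 + _)) ||| _).testBit _ = true
      rw [Nat.testBit_or, Nat.testBit_shiftLeft, Nat.testBit_shiftRight, Nat.add_sub_add_left, Nat.add_sub_cancel' h1,
        testBit_lane _ _ (col_lt _ _), hX k hk, decide_eq_true (Nat.add_le_add_left h1 64)]; rfl)
    refine ih (k + 1) (Nat.lor (Nat.land X (Nat.xor (Nat.mul rep (bm R (col τ k))) (nm c k)))
      (Nat.add (τ % 2 ^ (8 * k)) (Nat.shiftLeft (col τ k) (Nat.mul 8 k)))) (by omega) (fun j hj => ?_)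
      (Eq.trans ?_ h2)
    · change ((X &&& (Nat.mul rep _ ^^^ _)) ||| _).testBit _ = true
      rw [Nat.testBit_or, Nat.testBit_and, hX j hj, Nat.testBit_xor, testBit_rep (bm_lt _ _) hj (col_lt _ _),
        testBit_nm _ _ hj (col_lt _ _), hR _ (col_lt _ _) _ (col_lt _ _), hb k hk j hj]
      cases c.testBit (k ^^^ j) <;> rfl
    · congr 1
      change _ = τ % 2 ^ (8 * k) + ((τ >>> (8 * k)) &&& (2 ^ 8 - 1)) <<< (8 * k)
      rw [Nat.and_two_pow_sub_one_eq_mod, Nat.shiftRight_eq_div_pow, Nat.shiftLeft_eq, mul_add, pow_add, Nat.mod_mul,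
        mul_comm (2 ^ (8 * k))]

/-- the letters of a frame -/
noncomputable def lt (τ τi a : ℕ) : ℕ := bif Nat.blt a 8 then trM a else fm τ (fm (trM (Nat.land a 7)) τi)

noncomputable def leaf (c : ℕ) (S : List ℕ) (W : List (List ℕ × ℕ)) (τ : ℕ) : Bool := force τ fun τ =>
  bor (anyL (Nat.beq τ) S) (force (inv c τ) fun τi => band (Nat.beq (fm τ τi) idM)
    (anyL (fun w => kil (wd (lt τ τi) w.1 (bif Nat.beq w.2 16 then τ else lt τ τi w.2))) W))

variable {c : ℕ} {P : ℕ → ℕ → Prop} {Γ : ℕ → Prop}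

theorem lt_gam (h : NC c P Γ) {τ τi : ℕ} (hP : P τ τi) (a : ℕ) : Γ (lt τ τi a) := by
  rw [lt]
  cases e : Nat.blt a 8
  · rw [cond_false, fm_eq, fm_eq]
    exact h.gam _ _ hP _ (Nat.lt_succ_of_le Nat.and_le_right)
  · exact gam_tr h (Nat.blt_eq ▸ e)

theorem leaf_spec (h : NC c P Γ) {τ τi : ℕ} (hP : P τ τi) {S : List ℕ} {W : List (List ℕ × ℕ)}
    (k : leaf c S W τ = true) : τ ∈ S := by
  simp only [leaf, force_eq, bor_iff, band_iff, anyL_iff, Nat.beq_eq, fm_eq] at k
  rcases k with ⟨_, k, rfl⟩ | ⟨k1, w, -, k2⟩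
  · exact k
  rw [← eq_inv (h.pis _ _ hP) (inv_lt c τ) k1] at k2
  obtain ⟨vi, hv⟩ := wd_p h (g := lt τ τi) (w := w.1) (fun a _ => lt_gam h hP a)
    (b := bif Nat.beq w.2 16 then τ else lt τ τi w.2) (by
      cases Nat.beq w.2 16
      exacts [p_gam h (lt_gam h hP _), ⟨_, hP⟩])
  exact absurd k2 (not_kil h hv)

/-- the checks on the constants -/
def Par (c R lo X : ℕ) : Prop := (∀ w < 256, ∀ i < 8, (bm R (2 ^ i)).testBit w = bc c (2 ^ i) w) ∧
  (∀ v < 256, qc c v = false → bc c v 1 = true → ∀ j < 8, (j = 0 → v = 255) → X.testBit (256 * j + v) = true) ∧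
  ∀ n < 8, col lo n = 8 ∨ ∃ i < 8, ∃ j < 8, ∃ k < 8, ((col lo n = 1 ∧ i = n) ∨ (col lo n = 2 ∧ i = 1 ∧ j = n) ∨
    (col lo n = 4 ∧ i = 1 ∧ j = 2 ∧ k = n)) ∧ (glL i j k).Nodup ∧
      ∀ l < 8, c.testBit ((glL i j k).getD l 0) = c.testBit l

set_option synthInstance.maxSize 1000 in
instance (c R lo X : ℕ) : Decidable (Par c R lo X) := by unfold Par; infer_instance

theorem col_pm {i j k n : ℕ} (hi : i < 8) (hj : j < 8) (hk : k < 8) (hn : n < 8) (τ : ℕ) :
    col (mm τ (pmM (glL i j k))) n = col τ ((glL i j k).getD n 0) := by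
  have : ∀ n < 8, (glL i j k).getD n 0 < 8 := (by decide +kernel : ∀ i < 8, ∀ j < 8, ∀ k < 8, ∀ n < 8,
    (glL i j k).getD n 0 < 8) i hi j hj k hk
  rw [col_mm _ _ hn, pmM, col_mk (fun n hn => ?_) hn, ← ap_pow (this n hn)]
  · exact congrArg _ (Nat.one_shiftLeft _)
  · exact (Nat.one_shiftLeft _).trans_lt (Nat.pow_lt_pow_right (a := 2) (by norm_num) (this n hn))

theorem enum_of (h : NC c P Γ) {R lo X : ℕ} (hp : Par c R lo X) {S : List ℕ} {W : List (List ℕ × ℕ)}
    (hd : dfs c R lo (leaf c S W) 8 0 0 X = true) {τ τi : ℕ} (hP : P τ τi) (h1 : ap τ 255 = 1) (h2 : ap τ 1 = 255) :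
    ∃ t ∈ S, ∃ ti, P t ti := by
  obtain ⟨τ, ⟨⟨τi, hP⟩, h1, h2⟩, hm⟩ := (measure fun τ => col τ 1 * 65536 + col τ 2 * 256 + col τ 4).wf.has_min
    {τ | (∃ τi, P τ τi) ∧ ap τ 255 = 1 ∧ ap τ 1 = 255} ⟨τ, ⟨τi, hP⟩, h1, h2⟩
  have I := h.pis _ _ hP
  have p : ∀ {i}, i < 8 → 2 ^ i < 256 := fun hi => Nat.pow_lt_pow_right (a := 2) (by norm_num) hi
  refine ⟨τ, leaf_spec h hP (dfs_spec (R := R) (lo := lo) ?_ I.lt (fun i hi j hj => ?_) (fun n hn => ?_) 8 0 X rfl
    (fun j hj => ?_) (by rw [mul_zero, pow_zero, Nat.mod_one]; exact hd)), τi, hP⟩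
  · intro v hv w hw
    revert v
    refine vec_ind ?_ (hp.1 w hw) fun u hu v hv e1 e2 => ?_
    · rw [bc_zero h.hc]; simp [bm, bit_eq]
    · rw [bm_xor, Nat.testBit_xor, e1, e2, bc_xor h.hc hu hv hw]
  · rw [← ap_pow hi, ← ap_pow hj, I.bc (p hi) (p hj), bc_pow h.hc hi hj]
  · obtain e | ⟨i, hi, j, hj, k, hk, e, e1, e2⟩ := hp.2.2 n hn
    · rw [e, show col τ 8 = 0 from Nat.eq_of_testBit_eq fun j => by
        rw [testBit_col, Nat.testBit_lt_two_pow (I.lt.trans_le (Nat.pow_le_pow_right two_pos (by omega)))]; simp]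
      exact Nat.zero_le _
    obtain ⟨N, hN⟩ := nz_pm h.hc hi hj hk e1 e2
    have := hm (mm τ (pmM (glL i j k))) ⟨⟨_, h.rt _ _ _ _ hN hP⟩, by rw [ap_mm, hN.x, h1], by
      rw [show (1 : ℕ) = 2 ^ 0 from rfl, ap_pow (by norm_num), col_pm hi hj hk (by norm_num), ← h2,
        show (1 : ℕ) = 2 ^ 0 from rfl, ap_pow (by norm_num)]; rfl⟩
    change ¬ (col _ 1 * 65536 + col _ 2 * 256 + col _ 4 < col τ 1 * 65536 + col τ 2 * 256 + col τ 4) at this
    rw [col_pm hi hj hk (by norm_num), col_pm hi hj hk (by norm_num), col_pm hi hj hk (by norm_num)] at this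
    change ¬ (col τ i * 65536 + col τ j * 256 + col τ k < _) at this
    have := col_lt τ j
    have := col_lt τ k
    have := col_lt τ 2
    have := col_lt τ 4
    rcases e with ⟨e, rfl⟩ | ⟨e, rfl, rfl⟩ | ⟨e, rfl, rfl, rfl⟩ <;> rw [e] <;> omega
  · refine hp.2.1 _ (col_lt _ _) ?_ ?_ j hj ?_
    · rw [← ap_pow hj, I.q _ (p hj), qc_pow h.hc hj]
    · rw [← ap_pow hj, ← h1, I.bc (p hj) (by norm_num), bc_x h.hc (p hj)]
      exact (by decide +kernel : ∀ j < 8, Nat.beq (par (2 ^ j)) 1 = true) j hj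
    · rintro rfl
      rw [← ap_pow hj]; exact h2

end CL.LE.W.K8
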