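import Cfsg.Agent.SPOR.CE
import Cfsg.Agent.SPOR.LE.W.PCD0
import Cfsg.Agent.SPOR.LE.W.PCD1
set_option autoImplicit false
set_option Elab.async false
set_option maxRecDepth 100000

namespace CL.LE.W.Ep
open CL.CE CL.K

noncomputable def tT : Tr := (.node (.node (.node (.node (.node (.node (.node (.node (.node (.node (.leaf tT0) (.leaf tT512)) (.node (.leaf tT256) (.leaf tT768))) (.node (.node (.leaf tT128) (.leaf tT640)) (.node (.leaf tT384) (.leaf tT896)))) (.node (.node (.node (.leaf tT64) (.leaf tT576)) (.node (.leaf tT320) (.leaf tT832))) (.node (.node (.leaf tT192) (.leaf tT704)) (.node (.leaf tT448) (.leaf tT960))))) (.node (.node (.node (.node (.leaf tT32) (.leaf tT544)) (.node (.leaf tT288) (.leaf tT800))) (.node (.node (.leaf tT160) (.leaf tT672)) (.node (.leaf tT416) (.leaf tT928)))) (.node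 (.node (.node (.leaf tT96) (.leaf tT608)) (.node (.leaf tT352) (.leaf tT864))) (.node (.node (.leaf tT224) (.leaf tT736)) (.leaf tT480))))) (.node (.node (.node (.node (.node (.leaf tT16) (.leaf tT528)) (.node (.leaf tT272) (.leaf tT784))) (.node (.node (.leaf tT144) (.leaf tT656)) (.node (.leaf tT400) (.leaf tT912)))) (.node (.node (.node (.leaf tT80) (.leaf tT592)) (.node (.leaf tT336) (.leaf tT848))) (.node (.node (.leaf tT208) (.leaf tT720)) (.leaf tT464)))) (.node (.node (.node (.node (.leaf tT48) (.leaf tT560)) (.node (.leaf tT304) (.leaf tT816))) (.node (.node (.leaf tT176) (.leaf tT688)) (.node (.leaf tT432) (.leaf tT944)))) (.node (.node (.node (.leaf tT112) (.leaf tT624)) (.node (.leaf tT368) (.leaf tT880))) (.node (.node (.leaf tT240) (.leaf tT752)) (.leaf tT496)))))) (.node (.node (.node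 (.node (.node (.node (.leaf tT8) (.leaf tT520)) (.node (.leaf tT264) (.leaf tT776))) (.node (.node (.leaf tT136) (.leaf tT648)) (.node (.leaf tT392) (.leaf tT904)))) (.node (.node (.node (.leaf tT72) (.leaf tT584)) (.node (.leaf tT328) (.leaf tT840))) (.node (.node (.leaf tT200) (.leaf tT712)) (.leaf tT456)))) (.node (.node (.node (.node (.leaf tT40) (.leaf tT552)) (.node (.leaf tT296) (.leaf tT808))) (.node (.node (.leaf tT168) (.leaf tT680)) (.node (.leaf tT424) (.leaf tT936)))) (.node (.node (.node (.leaf tT104) (.leaf tT616)) (.node (.leaf tT360) (.leaf tT872))) (.node (.node (.leaf tT232) (.leaf tT744)) (.leaf tT488))))) (.node (.node (.node (.node (.node (.leaf tT24) (.leaf tT536)) (.node (.leaf tT280) (.leaf tT792))) (.node (.node (.leaf tT152) (.leaf tT664)) (.node (.leaf tT408) (.leaf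 tT920)))) (.node (.node (.node (.leaf tT88) (.leaf tT600)) (.node (.leaf tT344) (.leaf tT856))) (.node (.node (.leaf tT216) (.leaf tT728)) (.leaf tT472)))) (.node (.node (.node (.node (.leaf tT56) (.leaf tT568)) (.node (.leaf tT312) (.leaf tT824))) (.node (.node (.leaf tT184) (.leaf tT696)) (.node (.leaf tT440) (.leaf tT952)))) (.node (.node (.node (.leaf tT120) (.leaf tT632)) (.node (.leaf tT376) (.leaf tT888))) (.node (.node (.leaf tT248) (.leaf tT760)) (.leaf tT504))))))) (.node (.node (.node (.node (.node (.node (.node (.leaf tT4) (.leaf tT516)) (.node (.leaf tT260) (.leaf tT772))) (.node (.node (.leaf tT132) (.leaf tT644)) (.node (.leaf tT388) (.leaf tT900)))) (.node (.node (.node (.leaf tT68) (.leaf tT580)) (.node (.leaf tT324) (.leaf tT836))) (.node (.node (.leaf tT196) (.leaf tT708)) (.node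 (.leaf tT452) (.leaf tT964))))) (.node (.node (.node (.node (.leaf tT36) (.leaf tT548)) (.node (.leaf tT292) (.leaf tT804))) (.node (.node (.leaf tT164) (.leaf tT676)) (.node (.leaf tT420) (.leaf tT932)))) (.node (.node (.node (.leaf tT100) (.leaf tT612)) (.node (.leaf tT356) (.leaf tT868))) (.node (.node (.leaf tT228) (.leaf tT740)) (.leaf tT484))))) (.node (.node (.node (.node (.node (.leaf tT20) (.leaf tT532)) (.node (.leaf tT276) (.leaf tT788))) (.node (.node (.leaf tT148) (.leaf tT660)) (.node (.leaf tT404) (.leaf tT916)))) (.node (.node (.node (.leaf tT84) (.leaf tT596)) (.node (.leaf tT340) (.leaf tT852))) (.node (.node (.leaf tT212) (.leaf tT724)) (.leaf tT468)))) (.node (.node (.node (.node (.leaf tT52) (.leaf tT564)) (.node (.leaf tT308) (.leaf tT820))) (.node (.node (.leaf tT180) (.leaf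 tT692)) (.node (.leaf tT436) (.leaf tT948)))) (.node (.node (.node (.leaf tT116) (.leaf tT628)) (.node (.leaf tT372) (.leaf tT884))) (.node (.node (.leaf tT244) (.leaf tT756)) (.leaf tT500)))))) (.node (.node (.node (.node (.node (.node (.leaf tT12) (.leaf tT524)) (.node (.leaf tT268) (.leaf tT780))) (.node (.node (.leaf tT140) (.leaf tT652)) (.node (.leaf tT396) (.leaf tT908)))) (.node (.node (.node (.leaf tT76) (.leaf tT588)) (.node (.leaf tT332) (.leaf tT844))) (.node (.node (.leaf tT204) (.leaf tT716)) (.leaf tT460)))) (.node (.node (.node (.node (.leaf tT44) (.leaf tT556)) (.node (.leaf tT300) (.leaf tT812))) (.node (.node (.leaf tT172) (.leaf tT684)) (.node (.leaf tT428) (.leaf tT940)))) (.node (.node (.node (.leaf tT108) (.leaf tT620)) (.node (.leaf tT364) (.leaf tT876))) (.node (.node (.leaf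 tT236) (.leaf tT748)) (.leaf tT492))))) (.node (.node (.node (.node (.node (.leaf tT28) (.leaf tT540)) (.node (.leaf tT284) (.leaf tT796))) (.node (.node (.leaf tT156) (.leaf tT668)) (.node (.leaf tT412) (.leaf tT924)))) (.node (.node (.node (.leaf tT92) (.leaf tT604)) (.node (.leaf tT348) (.leaf tT860))) (.node (.node (.leaf tT220) (.leaf tT732)) (.leaf tT476)))) (.node (.node (.node (.node (.leaf tT60) (.leaf tT572)) (.node (.leaf tT316) (.leaf tT828))) (.node (.node (.leaf tT188) (.leaf tT700)) (.node (.leaf tT444) (.leaf tT956)))) (.node (.node (.node (.leaf tT124) (.leaf tT636)) (.node (.leaf tT380) (.leaf tT892))) (.node (.node (.leaf tT252) (.leaf tT764)) (.leaf tT508)))))))) (.node (.node (.node (.node (.node (.node (.node (.node (.leaf tT2) (.leaf tT514)) (.node (.leaf tT258) (.leaf tT770)))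 (.node (.node (.leaf tT130) (.leaf tT642)) (.node (.leaf tT386) (.leaf tT898)))) (.node (.node (.node (.leaf tT66) (.leaf tT578)) (.node (.leaf tT322) (.leaf tT834))) (.node (.node (.leaf tT194) (.leaf tT706)) (.node (.leaf tT450) (.leaf tT962))))) (.node (.node (.node (.node (.leaf tT34) (.leaf tT546)) (.node (.leaf tT290) (.leaf tT802))) (.node (.node (.leaf tT162) (.leaf tT674)) (.node (.leaf tT418) (.leaf tT930)))) (.node (.node (.node (.leaf tT98) (.leaf tT610)) (.node (.leaf tT354) (.leaf tT866))) (.node (.node (.leaf tT226) (.leaf tT738)) (.leaf tT482))))) (.node (.node (.node (.node (.node (.leaf tT18) (.leaf tT530)) (.node (.leaf tT274) (.leaf tT786))) (.node (.node (.leaf tT146) (.leaf tT658)) (.node (.leaf tT402) (.leaf tT914)))) (.node (.node (.node (.leaf tT82) (.leaf tT594)) (.node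 (.leaf tT338) (.leaf tT850))) (.node (.node (.leaf tT210) (.leaf tT722)) (.leaf tT466)))) (.node (.node (.node (.node (.leaf tT50) (.leaf tT562)) (.node (.leaf tT306) (.leaf tT818))) (.node (.node (.leaf tT178) (.leaf tT690)) (.node (.leaf tT434) (.leaf tT946)))) (.node (.node (.node (.leaf tT114) (.leaf tT626)) (.node (.leaf tT370) (.leaf tT882))) (.node (.node (.leaf tT242) (.leaf tT754)) (.leaf tT498)))))) (.node (.node (.node (.node (.node (.node (.leaf tT10) (.leaf tT522)) (.node (.leaf tT266) (.leaf tT778))) (.node (.node (.leaf tT138) (.leaf tT650)) (.node (.leaf tT394) (.leaf tT906)))) (.node (.node (.node (.leaf tT74) (.leaf tT586)) (.node (.leaf tT330) (.leaf tT842))) (.node (.node (.leaf tT202) (.leaf tT714)) (.leaf tT458)))) (.node (.node (.node (.node (.leaf tT42) (.leaf tT554)) (.node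 (.leaf tT298) (.leaf tT810))) (.node (.node (.leaf tT170) (.leaf tT682)) (.node (.leaf tT426) (.leaf tT938)))) (.node (.node (.node (.leaf tT106) (.leaf tT618)) (.node (.leaf tT362) (.leaf tT874))) (.node (.node (.leaf tT234) (.leaf tT746)) (.leaf tT490))))) (.node (.node (.node (.node (.node (.leaf tT26) (.leaf tT538)) (.node (.leaf tT282) (.leaf tT794))) (.node (.node (.leaf tT154) (.leaf tT666)) (.node (.leaf tT410) (.leaf tT922)))) (.node (.node (.node (.leaf tT90) (.leaf tT602)) (.node (.leaf tT346) (.leaf tT858))) (.node (.node (.leaf tT218) (.leaf tT730)) (.leaf tT474)))) (.node (.node (.node (.node (.leaf tT58) (.leaf tT570)) (.node (.leaf tT314) (.leaf tT826))) (.node (.node (.leaf tT186) (.leaf tT698)) (.node (.leaf tT442) (.leaf tT954)))) (.node (.node (.node (.leaf tT122) (.leaf tT634))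 (.node (.leaf tT378) (.leaf tT890))) (.node (.node (.leaf tT250) (.leaf tT762)) (.leaf tT506))))))) (.node (.node (.node (.node (.node (.node (.node (.leaf tT6) (.leaf tT518)) (.node (.leaf tT262) (.leaf tT774))) (.node (.node (.leaf tT134) (.leaf tT646)) (.node (.leaf tT390) (.leaf tT902)))) (.node (.node (.node (.leaf tT70) (.leaf tT582)) (.node (.leaf tT326) (.leaf tT838))) (.node (.node (.leaf tT198) (.leaf tT710)) (.node (.leaf tT454) (.leaf tT966))))) (.node (.node (.node (.node (.leaf tT38) (.leaf tT550)) (.node (.leaf tT294) (.leaf tT806))) (.node (.node (.leaf tT166) (.leaf tT678)) (.node (.leaf tT422) (.leaf tT934)))) (.node (.node (.node (.leaf tT102) (.leaf tT614)) (.node (.leaf tT358) (.leaf tT870))) (.node (.node (.leaf tT230) (.leaf tT742)) (.leaf tT486))))) (.node (.node (.node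 (.node (.node (.leaf tT22) (.leaf tT534)) (.node (.leaf tT278) (.leaf tT790))) (.node (.node (.leaf tT150) (.leaf tT662)) (.node (.leaf tT406) (.leaf tT918)))) (.node (.node (.node (.leaf tT86) (.leaf tT598)) (.node (.leaf tT342) (.leaf tT854))) (.node (.node (.leaf tT214) (.leaf tT726)) (.leaf tT470)))) (.node (.node (.node (.node (.leaf tT54) (.leaf tT566)) (.node (.leaf tT310) (.leaf tT822))) (.node (.node (.leaf tT182) (.leaf tT694)) (.node (.leaf tT438) (.leaf tT950)))) (.node (.node (.node (.leaf tT118) (.leaf tT630)) (.node (.leaf tT374) (.leaf tT886))) (.node (.node (.leaf tT246) (.leaf tT758)) (.leaf tT502)))))) (.node (.node (.node (.node (.node (.node (.leaf tT14) (.leaf tT526)) (.node (.leaf tT270) (.leaf tT782))) (.node (.node (.leaf tT142) (.leaf tT654)) (.node (.leaf tT398) (.leaf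 tT910)))) (.node (.node (.node (.leaf tT78) (.leaf tT590)) (.node (.leaf tT334) (.leaf tT846))) (.node (.node (.leaf tT206) (.leaf tT718)) (.leaf tT462)))) (.node (.node (.node (.node (.leaf tT46) (.leaf tT558)) (.node (.leaf tT302) (.leaf tT814))) (.node (.node (.leaf tT174) (.leaf tT686)) (.node (.leaf tT430) (.leaf tT942)))) (.node (.node (.node (.leaf tT110) (.leaf tT622)) (.node (.leaf tT366) (.leaf tT878))) (.node (.node (.leaf tT238) (.leaf tT750)) (.leaf tT494))))) (.node (.node (.node (.node (.node (.leaf tT30) (.leaf tT542)) (.node (.leaf tT286) (.leaf tT798))) (.node (.node (.leaf tT158) (.leaf tT670)) (.node (.leaf tT414) (.leaf tT926)))) (.node (.node (.node (.leaf tT94) (.leaf tT606)) (.node (.leaf tT350) (.leaf tT862))) (.node (.node (.leaf tT222) (.leaf tT734)) (.leaf tT478))))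 (.node (.node (.node (.node (.leaf tT62) (.leaf tT574)) (.node (.leaf tT318) (.leaf tT830))) (.node (.node (.leaf tT190) (.leaf tT702)) (.node (.leaf tT446) (.leaf tT958)))) (.node (.node (.node (.leaf tT126) (.leaf tT638)) (.node (.leaf tT382) (.leaf tT894))) (.node (.node (.leaf tT254) (.leaf tT766)) (.leaf tT510))))))))) (.node (.node (.node (.node (.node (.node (.node (.node (.node (.leaf tT1) (.leaf tT513)) (.node (.leaf tT257) (.leaf tT769))) (.node (.node (.leaf tT129) (.leaf tT641)) (.node (.leaf tT385) (.leaf tT897)))) (.node (.node (.node (.leaf tT65) (.leaf tT577)) (.node (.leaf tT321) (.leaf tT833))) (.node (.node (.leaf tT193) (.leaf tT705)) (.node (.leaf tT449) (.leaf tT961))))) (.node (.node (.node (.node (.leaf tT33) (.leaf tT545)) (.node (.leaf tT289) (.leaf tT801))) (.node (.node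 (.leaf tT161) (.leaf tT673)) (.node (.leaf tT417) (.leaf tT929)))) (.node (.node (.node (.leaf tT97) (.leaf tT609)) (.node (.leaf tT353) (.leaf tT865))) (.node (.node (.leaf tT225) (.leaf tT737)) (.leaf tT481))))) (.node (.node (.node (.node (.node (.leaf tT17) (.leaf tT529)) (.node (.leaf tT273) (.leaf tT785))) (.node (.node (.leaf tT145) (.leaf tT657)) (.node (.leaf tT401) (.leaf tT913)))) (.node (.node (.node (.leaf tT81) (.leaf tT593)) (.node (.leaf tT337) (.leaf tT849))) (.node (.node (.leaf tT209) (.leaf tT721)) (.leaf tT465)))) (.node (.node (.node (.node (.leaf tT49) (.leaf tT561)) (.node (.leaf tT305) (.leaf tT817))) (.node (.node (.leaf tT177) (.leaf tT689)) (.node (.leaf tT433) (.leaf tT945)))) (.node (.node (.node (.leaf tT113) (.leaf tT625)) (.node (.leaf tT369) (.leaf tT881))) (.node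 (.node (.leaf tT241) (.leaf tT753)) (.leaf tT497)))))) (.node (.node (.node (.node (.node (.node (.leaf tT9) (.leaf tT521)) (.node (.leaf tT265) (.leaf tT777))) (.node (.node (.leaf tT137) (.leaf tT649)) (.node (.leaf tT393) (.leaf tT905)))) (.node (.node (.node (.leaf tT73) (.leaf tT585)) (.node (.leaf tT329) (.leaf tT841))) (.node (.node (.leaf tT201) (.leaf tT713)) (.leaf tT457)))) (.node (.node (.node (.node (.leaf tT41) (.leaf tT553)) (.node (.leaf tT297) (.leaf tT809))) (.node (.node (.leaf tT169) (.leaf tT681)) (.node (.leaf tT425) (.leaf tT937)))) (.node (.node (.node (.leaf tT105) (.leaf tT617)) (.node (.leaf tT361) (.leaf tT873))) (.node (.node (.leaf tT233) (.leaf tT745)) (.leaf tT489))))) (.node (.node (.node (.node (.node (.leaf tT25) (.leaf tT537)) (.node (.leaf tT281) (.leaf tT793)))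 (.node (.node (.leaf tT153) (.leaf tT665)) (.node (.leaf tT409) (.leaf tT921)))) (.node (.node (.node (.leaf tT89) (.leaf tT601)) (.node (.leaf tT345) (.leaf tT857))) (.node (.node (.leaf tT217) (.leaf tT729)) (.leaf tT473)))) (.node (.node (.node (.node (.leaf tT57) (.leaf tT569)) (.node (.leaf tT313) (.leaf tT825))) (.node (.node (.leaf tT185) (.leaf tT697)) (.node (.leaf tT441) (.leaf tT953)))) (.node (.node (.node (.leaf tT121) (.leaf tT633)) (.node (.leaf tT377) (.leaf tT889))) (.node (.node (.leaf tT249) (.leaf tT761)) (.leaf tT505))))))) (.node (.node (.node (.node (.node (.node (.node (.leaf tT5) (.leaf tT517)) (.node (.leaf tT261) (.leaf tT773))) (.node (.node (.leaf tT133) (.leaf tT645)) (.node (.leaf tT389) (.leaf tT901)))) (.node (.node (.node (.leaf tT69) (.leaf tT581)) (.node (.leaf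 tT325) (.leaf tT837))) (.node (.node (.leaf tT197) (.leaf tT709)) (.node (.leaf tT453) (.leaf tT965))))) (.node (.node (.node (.node (.leaf tT37) (.leaf tT549)) (.node (.leaf tT293) (.leaf tT805))) (.node (.node (.leaf tT165) (.leaf tT677)) (.node (.leaf tT421) (.leaf tT933)))) (.node (.node (.node (.leaf tT101) (.leaf tT613)) (.node (.leaf tT357) (.leaf tT869))) (.node (.node (.leaf tT229) (.leaf tT741)) (.leaf tT485))))) (.node (.node (.node (.node (.node (.leaf tT21) (.leaf tT533)) (.node (.leaf tT277) (.leaf tT789))) (.node (.node (.leaf tT149) (.leaf tT661)) (.node (.leaf tT405) (.leaf tT917)))) (.node (.node (.node (.leaf tT85) (.leaf tT597)) (.node (.leaf tT341) (.leaf tT853))) (.node (.node (.leaf tT213) (.leaf tT725)) (.leaf tT469)))) (.node (.node (.node (.node (.leaf tT53) (.leaf tT565))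 (.node (.leaf tT309) (.leaf tT821))) (.node (.node (.leaf tT181) (.leaf tT693)) (.node (.leaf tT437) (.leaf tT949)))) (.node (.node (.node (.leaf tT117) (.leaf tT629)) (.node (.leaf tT373) (.leaf tT885))) (.node (.node (.leaf tT245) (.leaf tT757)) (.leaf tT501)))))) (.node (.node (.node (.node (.node (.node (.leaf tT13) (.leaf tT525)) (.node (.leaf tT269) (.leaf tT781))) (.node (.node (.leaf tT141) (.leaf tT653)) (.node (.leaf tT397) (.leaf tT909)))) (.node (.node (.node (.leaf tT77) (.leaf tT589)) (.node (.leaf tT333) (.leaf tT845))) (.node (.node (.leaf tT205) (.leaf tT717)) (.leaf tT461)))) (.node (.node (.node (.node (.leaf tT45) (.leaf tT557)) (.node (.leaf tT301) (.leaf tT813))) (.node (.node (.leaf tT173) (.leaf tT685)) (.node (.leaf tT429) (.leaf tT941)))) (.node (.node (.node (.leaf tT109)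 (.leaf tT621)) (.node (.leaf tT365) (.leaf tT877))) (.node (.node (.leaf tT237) (.leaf tT749)) (.leaf tT493))))) (.node (.node (.node (.node (.node (.leaf tT29) (.leaf tT541)) (.node (.leaf tT285) (.leaf tT797))) (.node (.node (.leaf tT157) (.leaf tT669)) (.node (.leaf tT413) (.leaf tT925)))) (.node (.node (.node (.leaf tT93) (.leaf tT605)) (.node (.leaf tT349) (.leaf tT861))) (.node (.node (.leaf tT221) (.leaf tT733)) (.leaf tT477)))) (.node (.node (.node (.node (.leaf tT61) (.leaf tT573)) (.node (.leaf tT317) (.leaf tT829))) (.node (.node (.leaf tT189) (.leaf tT701)) (.node (.leaf tT445) (.leaf tT957)))) (.node (.node (.node (.leaf tT125) (.leaf tT637)) (.node (.leaf tT381) (.leaf tT893))) (.node (.node (.leaf tT253) (.leaf tT765)) (.leaf tT509)))))))) (.node (.node (.node (.node (.node (.node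 (.node (.node (.leaf tT3) (.leaf tT515)) (.node (.leaf tT259) (.leaf tT771))) (.node (.node (.leaf tT131) (.leaf tT643)) (.node (.leaf tT387) (.leaf tT899)))) (.node (.node (.node (.leaf tT67) (.leaf tT579)) (.node (.leaf tT323) (.leaf tT835))) (.node (.node (.leaf tT195) (.leaf tT707)) (.node (.leaf tT451) (.leaf tT963))))) (.node (.node (.node (.node (.leaf tT35) (.leaf tT547)) (.node (.leaf tT291) (.leaf tT803))) (.node (.node (.leaf tT163) (.leaf tT675)) (.node (.leaf tT419) (.leaf tT931)))) (.node (.node (.node (.leaf tT99) (.leaf tT611)) (.node (.leaf tT355) (.leaf tT867))) (.node (.node (.leaf tT227) (.leaf tT739)) (.leaf tT483))))) (.node (.node (.node (.node (.node (.leaf tT19) (.leaf tT531)) (.node (.leaf tT275) (.leaf tT787))) (.node (.node (.leaf tT147) (.leaf tT659)) (.node (.leaf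 tT403) (.leaf tT915)))) (.node (.node (.node (.leaf tT83) (.leaf tT595)) (.node (.leaf tT339) (.leaf tT851))) (.node (.node (.leaf tT211) (.leaf tT723)) (.leaf tT467)))) (.node (.node (.node (.node (.leaf tT51) (.leaf tT563)) (.node (.leaf tT307) (.leaf tT819))) (.node (.node (.leaf tT179) (.leaf tT691)) (.node (.leaf tT435) (.leaf tT947)))) (.node (.node (.node (.leaf tT115) (.leaf tT627)) (.node (.leaf tT371) (.leaf tT883))) (.node (.node (.leaf tT243) (.leaf tT755)) (.leaf tT499)))))) (.node (.node (.node (.node (.node (.node (.leaf tT11) (.leaf tT523)) (.node (.leaf tT267) (.leaf tT779))) (.node (.node (.leaf tT139) (.leaf tT651)) (.node (.leaf tT395) (.leaf tT907)))) (.node (.node (.node (.leaf tT75) (.leaf tT587)) (.node (.leaf tT331) (.leaf tT843))) (.node (.node (.leaf tT203) (.leaf tT715))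 (.leaf tT459)))) (.node (.node (.node (.node (.leaf tT43) (.leaf tT555)) (.node (.leaf tT299) (.leaf tT811))) (.node (.node (.leaf tT171) (.leaf tT683)) (.node (.leaf tT427) (.leaf tT939)))) (.node (.node (.node (.leaf tT107) (.leaf tT619)) (.node (.leaf tT363) (.leaf tT875))) (.node (.node (.leaf tT235) (.leaf tT747)) (.leaf tT491))))) (.node (.node (.node (.node (.node (.leaf tT27) (.leaf tT539)) (.node (.leaf tT283) (.leaf tT795))) (.node (.node (.leaf tT155) (.leaf tT667)) (.node (.leaf tT411) (.leaf tT923)))) (.node (.node (.node (.leaf tT91) (.leaf tT603)) (.node (.leaf tT347) (.leaf tT859))) (.node (.node (.leaf tT219) (.leaf tT731)) (.leaf tT475)))) (.node (.node (.node (.node (.leaf tT59) (.leaf tT571)) (.node (.leaf tT315) (.leaf tT827))) (.node (.node (.leaf tT187) (.leaf tT699)) (.node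 (.leaf tT443) (.leaf tT955)))) (.node (.node (.node (.leaf tT123) (.leaf tT635)) (.node (.leaf tT379) (.leaf tT891))) (.node (.node (.leaf tT251) (.leaf tT763)) (.leaf tT507))))))) (.node (.node (.node (.node (.node (.node (.node (.leaf tT7) (.leaf tT519)) (.node (.leaf tT263) (.leaf tT775))) (.node (.node (.leaf tT135) (.leaf tT647)) (.node (.leaf tT391) (.leaf tT903)))) (.node (.node (.node (.leaf tT71) (.leaf tT583)) (.node (.leaf tT327) (.leaf tT839))) (.node (.node (.leaf tT199) (.leaf tT711)) (.leaf tT455)))) (.node (.node (.node (.node (.leaf tT39) (.leaf tT551)) (.node (.leaf tT295) (.leaf tT807))) (.node (.node (.leaf tT167) (.leaf tT679)) (.node (.leaf tT423) (.leaf tT935)))) (.node (.node (.node (.leaf tT103) (.leaf tT615)) (.node (.leaf tT359) (.leaf tT871))) (.node (.node (.leaf tT231)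 (.leaf tT743)) (.leaf tT487))))) (.node (.node (.node (.node (.node (.leaf tT23) (.leaf tT535)) (.node (.leaf tT279) (.leaf tT791))) (.node (.node (.leaf tT151) (.leaf tT663)) (.node (.leaf tT407) (.leaf tT919)))) (.node (.node (.node (.leaf tT87) (.leaf tT599)) (.node (.leaf tT343) (.leaf tT855))) (.node (.node (.leaf tT215) (.leaf tT727)) (.leaf tT471)))) (.node (.node (.node (.node (.leaf tT55) (.leaf tT567)) (.node (.leaf tT311) (.leaf tT823))) (.node (.node (.leaf tT183) (.leaf tT695)) (.node (.leaf tT439) (.leaf tT951)))) (.node (.node (.node (.leaf tT119) (.leaf tT631)) (.node (.leaf tT375) (.leaf tT887))) (.node (.node (.leaf tT247) (.leaf tT759)) (.leaf tT503)))))) (.node (.node (.node (.node (.node (.node (.leaf tT15) (.leaf tT527)) (.node (.leaf tT271) (.leaf tT783))) (.node (.node (.leaf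 tT143) (.leaf tT655)) (.node (.leaf tT399) (.leaf tT911)))) (.node (.node (.node (.leaf tT79) (.leaf tT591)) (.node (.leaf tT335) (.leaf tT847))) (.node (.node (.leaf tT207) (.leaf tT719)) (.leaf tT463)))) (.node (.node (.node (.node (.leaf tT47) (.leaf tT559)) (.node (.leaf tT303) (.leaf tT815))) (.node (.node (.leaf tT175) (.leaf tT687)) (.node (.leaf tT431) (.leaf tT943)))) (.node (.node (.node (.leaf tT111) (.leaf tT623)) (.node (.leaf tT367) (.leaf tT879))) (.node (.node (.leaf tT239) (.leaf tT751)) (.leaf tT495))))) (.node (.node (.node (.node (.node (.leaf tT31) (.leaf tT543)) (.node (.leaf tT287) (.leaf tT799))) (.node (.node (.leaf tT159) (.leaf tT671)) (.node (.leaf tT415) (.leaf tT927)))) (.node (.node (.node (.leaf tT95) (.leaf tT607)) (.node (.leaf tT351) (.leaf tT863))) (.node (.node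 (.leaf tT223) (.leaf tT735)) (.leaf tT479)))) (.node (.node (.node (.node (.leaf tT63) (.leaf tT575)) (.node (.leaf tT319) (.leaf tT831))) (.node (.node (.leaf tT191) (.leaf tT703)) (.node (.leaf tT447) (.leaf tT959)))) (.node (.node (.node (.leaf tT127) (.leaf tT639)) (.node (.leaf tT383) (.leaf tT895))) (.node (.node (.leaf tT255) (.leaf tT767)) (.leaf tT511))))))))))
noncomputable def tJ : Tr := (.node (.node (.node (.node (.node (.node (.node (.node (.node (.leaf tJ0) (.leaf tJ256)) (.node (.leaf tJ128) (.leaf tJ384))) (.node (.node (.leaf tJ64) (.leaf tJ320)) (.node (.leaf tJ192) (.leaf tJ448)))) (.node (.node (.node (.leaf tJ32) (.leaf tJ288)) (.node (.leaf tJ160) (.leaf tJ416))) (.node (.node (.leaf tJ96) (.leaf tJ352)) (.node (.leaf tJ224) (.leaf tJ480))))) (.node (.node (.node (.node (.leaf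 tJ16) (.leaf tJ272)) (.node (.leaf tJ144) (.leaf tJ400))) (.node (.node (.leaf tJ80) (.leaf tJ336)) (.node (.leaf tJ208) (.leaf tJ464)))) (.node (.node (.node (.leaf tJ48) (.leaf tJ304)) (.node (.leaf tJ176) (.leaf tJ432))) (.node (.node (.leaf tJ112) (.leaf tJ368)) (.leaf tJ240))))) (.node (.node (.node (.node (.node (.leaf tJ8) (.leaf tJ264)) (.node (.leaf tJ136) (.leaf tJ392))) (.node (.node (.leaf tJ72) (.leaf tJ328)) (.node (.leaf tJ200) (.leaf tJ456)))) (.node (.node (.node (.leaf tJ40) (.leaf tJ296)) (.node (.leaf tJ168) (.leaf tJ424))) (.node (.node (.leaf tJ104) (.leaf tJ360)) (.leaf tJ232)))) (.node (.node (.node (.node (.leaf tJ24) (.leaf tJ280)) (.node (.leaf tJ152) (.leaf tJ408))) (.node (.node (.leaf tJ88) (.leaf tJ344)) (.node (.leaf tJ216) (.leaf tJ472)))) (.node (.node (.node (.leaf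 tJ56) (.leaf tJ312)) (.node (.leaf tJ184) (.leaf tJ440))) (.node (.node (.leaf tJ120) (.leaf tJ376)) (.leaf tJ248)))))) (.node (.node (.node (.node (.node (.node (.leaf tJ4) (.leaf tJ260)) (.node (.leaf tJ132) (.leaf tJ388))) (.node (.node (.leaf tJ68) (.leaf tJ324)) (.node (.leaf tJ196) (.leaf tJ452)))) (.node (.node (.node (.leaf tJ36) (.leaf tJ292)) (.node (.leaf tJ164) (.leaf tJ420))) (.node (.node (.leaf tJ100) (.leaf tJ356)) (.leaf tJ228)))) (.node (.node (.node (.node (.leaf tJ20) (.leaf tJ276)) (.node (.leaf tJ148) (.leaf tJ404))) (.node (.node (.leaf tJ84) (.leaf tJ340)) (.node (.leaf tJ212) (.leaf tJ468)))) (.node (.node (.node (.leaf tJ52) (.leaf tJ308)) (.node (.leaf tJ180) (.leaf tJ436))) (.node (.node (.leaf tJ116) (.leaf tJ372)) (.leaf tJ244))))) (.node (.node (.node (.node (.node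 (.leaf tJ12) (.leaf tJ268)) (.node (.leaf tJ140) (.leaf tJ396))) (.node (.node (.leaf tJ76) (.leaf tJ332)) (.node (.leaf tJ204) (.leaf tJ460)))) (.node (.node (.node (.leaf tJ44) (.leaf tJ300)) (.node (.leaf tJ172) (.leaf tJ428))) (.node (.node (.leaf tJ108) (.leaf tJ364)) (.leaf tJ236)))) (.node (.node (.node (.node (.leaf tJ28) (.leaf tJ284)) (.node (.leaf tJ156) (.leaf tJ412))) (.node (.node (.leaf tJ92) (.leaf tJ348)) (.node (.leaf tJ220) (.leaf tJ476)))) (.node (.node (.node (.leaf tJ60) (.leaf tJ316)) (.node (.leaf tJ188) (.leaf tJ444))) (.node (.node (.leaf tJ124) (.leaf tJ380)) (.leaf tJ252))))))) (.node (.node (.node (.node (.node (.node (.node (.leaf tJ2) (.leaf tJ258)) (.node (.leaf tJ130) (.leaf tJ386))) (.node (.node (.leaf tJ66) (.leaf tJ322)) (.node (.leaf tJ194) (.leaf tJ450))))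 (.node (.node (.node (.leaf tJ34) (.leaf tJ290)) (.node (.leaf tJ162) (.leaf tJ418))) (.node (.node (.leaf tJ98) (.leaf tJ354)) (.node (.leaf tJ226) (.leaf tJ482))))) (.node (.node (.node (.node (.leaf tJ18) (.leaf tJ274)) (.node (.leaf tJ146) (.leaf tJ402))) (.node (.node (.leaf tJ82) (.leaf tJ338)) (.node (.leaf tJ210) (.leaf tJ466)))) (.node (.node (.node (.leaf tJ50) (.leaf tJ306)) (.node (.leaf tJ178) (.leaf tJ434))) (.node (.node (.leaf tJ114) (.leaf tJ370)) (.leaf tJ242))))) (.node (.node (.node (.node (.node (.leaf tJ10) (.leaf tJ266)) (.node (.leaf tJ138) (.leaf tJ394))) (.node (.node (.leaf tJ74) (.leaf tJ330)) (.node (.leaf tJ202) (.leaf tJ458)))) (.node (.node (.node (.leaf tJ42) (.leaf tJ298)) (.node (.leaf tJ170) (.leaf tJ426))) (.node (.node (.leaf tJ106) (.leaf tJ362)) (.leaf tJ234))))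 (.node (.node (.node (.node (.leaf tJ26) (.leaf tJ282)) (.node (.leaf tJ154) (.leaf tJ410))) (.node (.node (.leaf tJ90) (.leaf tJ346)) (.node (.leaf tJ218) (.leaf tJ474)))) (.node (.node (.node (.leaf tJ58) (.leaf tJ314)) (.node (.leaf tJ186) (.leaf tJ442))) (.node (.node (.leaf tJ122) (.leaf tJ378)) (.leaf tJ250)))))) (.node (.node (.node (.node (.node (.node (.leaf tJ6) (.leaf tJ262)) (.node (.leaf tJ134) (.leaf tJ390))) (.node (.node (.leaf tJ70) (.leaf tJ326)) (.node (.leaf tJ198) (.leaf tJ454)))) (.node (.node (.node (.leaf tJ38) (.leaf tJ294)) (.node (.leaf tJ166) (.leaf tJ422))) (.node (.node (.leaf tJ102) (.leaf tJ358)) (.leaf tJ230)))) (.node (.node (.node (.node (.leaf tJ22) (.leaf tJ278)) (.node (.leaf tJ150) (.leaf tJ406))) (.node (.node (.leaf tJ86) (.leaf tJ342)) (.node (.leaf tJ214)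 (.leaf tJ470)))) (.node (.node (.node (.leaf tJ54) (.leaf tJ310)) (.node (.leaf tJ182) (.leaf tJ438))) (.node (.node (.leaf tJ118) (.leaf tJ374)) (.leaf tJ246))))) (.node (.node (.node (.node (.node (.leaf tJ14) (.leaf tJ270)) (.node (.leaf tJ142) (.leaf tJ398))) (.node (.node (.leaf tJ78) (.leaf tJ334)) (.node (.leaf tJ206) (.leaf tJ462)))) (.node (.node (.node (.leaf tJ46) (.leaf tJ302)) (.node (.leaf tJ174) (.leaf tJ430))) (.node (.node (.leaf tJ110) (.leaf tJ366)) (.leaf tJ238)))) (.node (.node (.node (.node (.leaf tJ30) (.leaf tJ286)) (.node (.leaf tJ158) (.leaf tJ414))) (.node (.node (.leaf tJ94) (.leaf tJ350)) (.node (.leaf tJ222) (.leaf tJ478)))) (.node (.node (.node (.leaf tJ62) (.leaf tJ318)) (.node (.leaf tJ190) (.leaf tJ446))) (.node (.node (.leaf tJ126) (.leaf tJ382)) (.leaf tJ254))))))))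 (.node (.node (.node (.node (.node (.node (.node (.node (.leaf tJ1) (.leaf tJ257)) (.node (.leaf tJ129) (.leaf tJ385))) (.node (.node (.leaf tJ65) (.leaf tJ321)) (.node (.leaf tJ193) (.leaf tJ449)))) (.node (.node (.node (.leaf tJ33) (.leaf tJ289)) (.node (.leaf tJ161) (.leaf tJ417))) (.node (.node (.leaf tJ97) (.leaf tJ353)) (.node (.leaf tJ225) (.leaf tJ481))))) (.node (.node (.node (.node (.leaf tJ17) (.leaf tJ273)) (.node (.leaf tJ145) (.leaf tJ401))) (.node (.node (.leaf tJ81) (.leaf tJ337)) (.node (.leaf tJ209) (.leaf tJ465)))) (.node (.node (.node (.leaf tJ49) (.leaf tJ305)) (.node (.leaf tJ177) (.leaf tJ433))) (.node (.node (.leaf tJ113) (.leaf tJ369)) (.leaf tJ241))))) (.node (.node (.node (.node (.node (.leaf tJ9) (.leaf tJ265)) (.node (.leaf tJ137) (.leaf tJ393))) (.node (.node (.leaf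 tJ73) (.leaf tJ329)) (.node (.leaf tJ201) (.leaf tJ457)))) (.node (.node (.node (.leaf tJ41) (.leaf tJ297)) (.node (.leaf tJ169) (.leaf tJ425))) (.node (.node (.leaf tJ105) (.leaf tJ361)) (.leaf tJ233)))) (.node (.node (.node (.node (.leaf tJ25) (.leaf tJ281)) (.node (.leaf tJ153) (.leaf tJ409))) (.node (.node (.leaf tJ89) (.leaf tJ345)) (.node (.leaf tJ217) (.leaf tJ473)))) (.node (.node (.node (.leaf tJ57) (.leaf tJ313)) (.node (.leaf tJ185) (.leaf tJ441))) (.node (.node (.leaf tJ121) (.leaf tJ377)) (.leaf tJ249)))))) (.node (.node (.node (.node (.node (.node (.leaf tJ5) (.leaf tJ261)) (.node (.leaf tJ133) (.leaf tJ389))) (.node (.node (.leaf tJ69) (.leaf tJ325)) (.node (.leaf tJ197) (.leaf tJ453)))) (.node (.node (.node (.leaf tJ37) (.leaf tJ293)) (.node (.leaf tJ165) (.leaf tJ421))) (.node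 (.node (.leaf tJ101) (.leaf tJ357)) (.leaf tJ229)))) (.node (.node (.node (.node (.leaf tJ21) (.leaf tJ277)) (.node (.leaf tJ149) (.leaf tJ405))) (.node (.node (.leaf tJ85) (.leaf tJ341)) (.node (.leaf tJ213) (.leaf tJ469)))) (.node (.node (.node (.leaf tJ53) (.leaf tJ309)) (.node (.leaf tJ181) (.leaf tJ437))) (.node (.node (.leaf tJ117) (.leaf tJ373)) (.leaf tJ245))))) (.node (.node (.node (.node (.node (.leaf tJ13) (.leaf tJ269)) (.node (.leaf tJ141) (.leaf tJ397))) (.node (.node (.leaf tJ77) (.leaf tJ333)) (.node (.leaf tJ205) (.leaf tJ461)))) (.node (.node (.node (.leaf tJ45) (.leaf tJ301)) (.node (.leaf tJ173) (.leaf tJ429))) (.node (.node (.leaf tJ109) (.leaf tJ365)) (.leaf tJ237)))) (.node (.node (.node (.node (.leaf tJ29) (.leaf tJ285)) (.node (.leaf tJ157) (.leaf tJ413))) (.node (.node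 (.leaf tJ93) (.leaf tJ349)) (.node (.leaf tJ221) (.leaf tJ477)))) (.node (.node (.node (.leaf tJ61) (.leaf tJ317)) (.node (.leaf tJ189) (.leaf tJ445))) (.node (.node (.leaf tJ125) (.leaf tJ381)) (.leaf tJ253))))))) (.node (.node (.node (.node (.node (.node (.node (.leaf tJ3) (.leaf tJ259)) (.node (.leaf tJ131) (.leaf tJ387))) (.node (.node (.leaf tJ67) (.leaf tJ323)) (.node (.leaf tJ195) (.leaf tJ451)))) (.node (.node (.node (.leaf tJ35) (.leaf tJ291)) (.node (.leaf tJ163) (.leaf tJ419))) (.node (.node (.leaf tJ99) (.leaf tJ355)) (.node (.leaf tJ227) (.leaf tJ483))))) (.node (.node (.node (.node (.leaf tJ19) (.leaf tJ275)) (.node (.leaf tJ147) (.leaf tJ403))) (.node (.node (.leaf tJ83) (.leaf tJ339)) (.node (.leaf tJ211) (.leaf tJ467)))) (.node (.node (.node (.leaf tJ51) (.leaf tJ307)) (.node (.leaf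 tJ179) (.leaf tJ435))) (.node (.node (.leaf tJ115) (.leaf tJ371)) (.leaf tJ243))))) (.node (.node (.node (.node (.node (.leaf tJ11) (.leaf tJ267)) (.node (.leaf tJ139) (.leaf tJ395))) (.node (.node (.leaf tJ75) (.leaf tJ331)) (.node (.leaf tJ203) (.leaf tJ459)))) (.node (.node (.node (.leaf tJ43) (.leaf tJ299)) (.node (.leaf tJ171) (.leaf tJ427))) (.node (.node (.leaf tJ107) (.leaf tJ363)) (.leaf tJ235)))) (.node (.node (.node (.node (.leaf tJ27) (.leaf tJ283)) (.node (.leaf tJ155) (.leaf tJ411))) (.node (.node (.leaf tJ91) (.leaf tJ347)) (.node (.leaf tJ219) (.leaf tJ475)))) (.node (.node (.node (.leaf tJ59) (.leaf tJ315)) (.node (.leaf tJ187) (.leaf tJ443))) (.node (.node (.leaf tJ123) (.leaf tJ379)) (.leaf tJ251)))))) (.node (.node (.node (.node (.node (.node (.leaf tJ7) (.leaf tJ263)) (.node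 (.leaf tJ135) (.leaf tJ391))) (.node (.node (.leaf tJ71) (.leaf tJ327)) (.node (.leaf tJ199) (.leaf tJ455)))) (.node (.node (.node (.leaf tJ39) (.leaf tJ295)) (.node (.leaf tJ167) (.leaf tJ423))) (.node (.node (.leaf tJ103) (.leaf tJ359)) (.leaf tJ231)))) (.node (.node (.node (.node (.leaf tJ23) (.leaf tJ279)) (.node (.leaf tJ151) (.leaf tJ407))) (.node (.node (.leaf tJ87) (.leaf tJ343)) (.node (.leaf tJ215) (.leaf tJ471)))) (.node (.node (.node (.leaf tJ55) (.leaf tJ311)) (.node (.leaf tJ183) (.leaf tJ439))) (.node (.node (.leaf tJ119) (.leaf tJ375)) (.leaf tJ247))))) (.node (.node (.node (.node (.node (.leaf tJ15) (.leaf tJ271)) (.node (.leaf tJ143) (.leaf tJ399))) (.node (.node (.leaf tJ79) (.leaf tJ335)) (.node (.leaf tJ207) (.leaf tJ463)))) (.node (.node (.node (.leaf tJ47) (.leaf tJ303))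 (.node (.leaf tJ175) (.leaf tJ431))) (.node (.node (.leaf tJ111) (.leaf tJ367)) (.leaf tJ239)))) (.node (.node (.node (.node (.leaf tJ31) (.leaf tJ287)) (.node (.leaf tJ159) (.leaf tJ415))) (.node (.node (.leaf tJ95) (.leaf tJ351)) (.node (.leaf tJ223) (.leaf tJ479)))) (.node (.node (.node (.leaf tJ63) (.leaf tJ319)) (.node (.leaf tJ191) (.leaf tJ447))) (.node (.node (.leaf tJ127) (.leaf tJ383)) (.leaf tJ255)))))))))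
noncomputable def tD : Tr := (.node (.node (.node (.node (.node (.node (.leaf tD0) (.leaf tD32)) (.node (.leaf tD16) (.leaf tD48))) (.node (.node (.leaf tD8) (.leaf tD40)) (.node (.leaf tD24) (.leaf tD56)))) (.node (.node (.node (.leaf tD4) (.leaf tD36)) (.node (.leaf tD20) (.leaf tD52))) (.node (.node (.leaf tD12) (.leaf tD44)) (.node (.leaf tD28) (.leaf tD60))))) (.node (.node (.node (.node (.leaf tD2) (.leaf tD34)) (.node (.leaf tD18) (.leaf tD50))) (.node (.node (.leaf tD10) (.leaf tD42)) (.node (.leaf tD26) (.leaf tD58)))) (.node (.node (.node (.leaf tD6) (.leaf tD38)) (.node (.leaf tD22) (.leaf tD54))) (.node (.node (.leaf tD14) (.leaf tD46)) (.leaf tD30))))) (.node (.node (.node (.node (.node (.leaf tD1) (.leaf tD33)) (.node (.leaf tD17) (.leaf tD49))) (.node (.node (.leaf tD9) (.leaf tD41))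 (.node (.leaf tD25) (.leaf tD57)))) (.node (.node (.node (.leaf tD5) (.leaf tD37)) (.node (.leaf tD21) (.leaf tD53))) (.node (.node (.leaf tD13) (.leaf tD45)) (.leaf tD29)))) (.node (.node (.node (.node (.leaf tD3) (.leaf tD35)) (.node (.leaf tD19) (.leaf tD51))) (.node (.node (.leaf tD11) (.leaf tD43)) (.node (.leaf tD27) (.leaf tD59)))) (.node (.node (.node (.leaf tD7) (.leaf tD39)) (.node (.leaf tD23) (.leaf tD55))) (.node (.node (.leaf tD15) (.leaf tD47)) (.leaf tD31))))))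

def rels : List (List ℕ) := [[0,0],
  [1,1],
  [2,2],
  [3,3],
  [4,4],
  [5,5],
  [6,7],
  [7,6],
  [8,9],
  [9,8],
  [10,11],
  [11,10],
  [12,13],
  [13,12],
  [14,15],
  [15,14],
  [16,17],
  [17,16],
  [0,1,0,1],
  [0,2,0,2],
  [1,2,1,2],
  [4,0,4,0],
  [4,1,4,1],
  [4,2,4,2],
  [4,3,4,3],
  [3,0,3,0,3,0,3,0],
  [3,1,3,1,3,1,3,1],
  [3,0,1,3,0,1,3,0,1,3,0,1],
  [3,2,3,2,3,2,3,2],
  [3,0,2,3,0,2,3,0,2,3,0,2],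
  [3,1,2,3,1,2,3,1,2,3,1,2],
  [3,0,1,2,3,0,1,2,3,0,1,2,3,0,1,2,4],
  [6,6,6],
  [0,6,0,6],
  [1,6,1,7],
  [2,6,2,7],
  [6,3,7,3,0,3,0],
  [7,3,6,0,3,0],
  [6,4,7,4],
  [8,8,8],
  [0,8,0,9],
  [1,8,1,8],
  [2,8,2,9],
  [8,3,9,3,1,3,1],
  [9,3,8,1,3,1],
  [8,4,9,4],
  [10,10,10],
  [0,10,0,11],
  [1,10,1,11],
  [2,10,2,10],
  [10,3,11,3,2,3,2],
  [11,3,10,2,3,2],
  [10,4,11,4],
  [6,8,7,9],
  [6,10,7,11],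
  [8,10,9,11],
  [5,3,5,3,5,3],
  [5,0,5,3,0,3,0],
  [5,1,5,3,1,3,1],
  [5,2,5,3,2,3,2],
  [5,4,5,3,1,3,2,3,1,3,0,3,1,3,2,3,1,3,0],
  [5,0,6,5,0,6,5,0,6],
  [5,1,8,5,1,8,5,1,8],
  [5,2,10,5,2,10,5,2,10],
  [12,12,12],
  [0,12,0,12],
  [1,12,1,12],
  [2,12,2,12],
  [12,3,13,4,3,2,3,2,1,3,1,0,3,0],
  [13,3,12,4,2,3,2,1,3,1,0,3,0],
  [12,4,13,4],
  [6,12,7,13],
  [8,12,9,13],
  [10,12,11,13],
  [1,2,3,0,3,1,2,4,5,0,12,1,2,3,0,3,1,2,4,5,0,12,1,2,3,0,3,1,2,4,5,0,12],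
  [4,5,0,6,1,8,2,10,3,5,3,11,2,9,1,7,0,5,15],
  [12,14,13,15,17],
  [16,12,17,13],
  [16,14,17,15],
  [14,14,14],
  [4,14,4,14],
  [14,6,15,7],
  [14,8,15,9],
  [14,10,15,11],
  [14,0,15,0],
  [14,1,15,1],
  [14,2,15,2],
  [16,6,17,7],
  [16,8,17,9],
  [16,10,17,11]]
def subs : List (List ℕ) := [[0],
  [1],
  [2],
  [3],
  [4],
  [5],
  [6],
  [7],
  [8],
  [9],
  [10],
  [11]]
def iv (a : ℕ) : ℕ := [0,1,2,3,4,5,7,6,9,8,11,10,13,12,15,14,17,16,18].getD a 0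
noncomputable def RR0 : List Rule := [.bwd [0] 0 0 0,
  .bwd [1,0,1] 18 2 0,
  .bwd [2,0,2] 19 2 0,
  .bwd [7,3,6,0,3] 37 5 0,
  .bwd [15,0,14] 84 1 0,
  .bwd [5,3,0,3,0,5] 57 1 0,
  .bwd [14,0,15] 84 3 0,
  .bwd [10,0,11] 47 0 0,
  .bwd [4,0,4] 21 1 0,
  .bwd [7,0,7] 33 1 1,
  .bwd [13,0,13] 65 1 1,
  .bwd [11,0,10] 47 2 0,
  .bwd [12,0,12] 65 2 0,
  .bwd [9,0,8] 40 2 0,
  .bwd [8,0,9] 40 0 0,
  .bwd [6,0,6] 33 2 0,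
  .gen [18] [0] 0 0 0,
  .bwd [3,0,6,3,7,3] 36 4 0,
  .bwd [5,0,5,3,0,3] 57 6 0,
  .bwd [2,0,2] 19 0 0,
  .bwd [3,0,5,0,5,3] 57 4 0,
  .bwd [5,0,3,0,3,5] 57 5 1,
  .bwd [3,0,3,5,0,5] 57 0 1,
  .bwd [12,0,12] 65 0 0,
  .bwd [6,3,7,3,0,3] 36 6 0,
  .bwd [3,0,7,3,6] 37 3 0,
  .bwd [13,0,13] 65 3 1,
  .bwd [6,5,0,6,5,0,6,5] 61 1 0,
  .bwd [1,0,1] 18 0 0,
  .bwd [7,0,7] 33 3 1,
  .bwd [3,6,3,7,0,3] 36 2 1,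
  .bwd [4,0,4] 21 3 0,
  .bwd [6,0,6] 33 0 0,
  .bwd [3,1,0,3,1,0,3,1,0,3,1] 27 1 1,
  .bwd [3,2,0,3,2,0,3,2,0,3,2] 29 1 1,
  .bwd [5,15,4,5,0,6,1,8,2,10,3,5,3,11,2,9,1,7] 75 16 0,
  .bwd [3,0,3,6,3,7] 36 0 1,
  .bwd [1,3,0,1,3,0,1,3,0,1,3] 27 1 0,
  .bwd [2,3,0,2,3,0,2,3,0,2,3] 29 1 0,
  .bwd [3,5,0,5,0,3] 57 2 1,
  .bwd [5,7,0,5,7,0,5,7] 61 1 1,
  .bwd [3,0,1,3,1,2,3,2,3,4,12,3,13] 68 0 1,
  .bwd [3,2,1,0,3,2,1,0,3,2,1,0,3,4,2,1] 31 3 1,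
  .bwd [3,0,13,3,12,4,2,3,2,1,3,1] 69 10 0,
  .bwd [3,0,1,3,1,2,3,2,4,13,3,12] 69 0 1,
  .bwd [2,3,0,2,3,0,2,3,0,2,3] 29 7 0,
  .bwd [3,0,3,0,3,0,3] 25 3 0,
  .bwd [3,1,3,2,3,1,3,0,5,4,5,3,1,3,2,3,1,3] 60 10 0,
  .bwd [1,2,3,0,1,2,3,0,1,2,3,0,1,2,4,3] 31 1 0,
  .bwd [1,2,3,0,1,2,3,0,1,2,4,3,0,1,2,3] 31 5 0,
  .bwd [1,2,4,3,0,1,2,3,0,1,2,3,0,1,2,3] 31 13 0,
  .bwd [1,2,3,0,1,2,4,3,0,1,2,3,0,1,2,3] 31 9 0,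
  .bwd [6,1,8,2,10,3,5,3,11,2,9,1,7,0,5,15,4,5] 75 2 0,
  .bwd [13,3,12,4,2,3,2,1,3,1,0,3] 69 12 0,
  .bwd [2,3,0,2,3,0,2,3,0,2,3] 29 10 0,
  .bwd [3,2,1,0,3,4,2,1,0,3,2,1,0,3,2,1] 31 11 1,
  .bwd [6,1,8,2,10,3,5,3,11,2,9,1,7,0,5,4,14,5] 75 2 1,
  .bwd [3,1,3,2,3,1,3,0,3,1,3,2,3,1,3,5,4,5] 60 0 1,
  .bwd [3,1,0,3,1,0,3,1,0,3,1] 27 10 1,
  .bwd [3,2,1,0,3,2,1,0,3,4,2,1,0,3,2,1] 31 7 1,
  .bwd [12,1,2,3,0,3,1,2,4,5,0,12,1,2,3,0,3,1,2,4,5,0,12,1,2,3,0,3,1,2,4,5] 74 9 0,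
  .bwd [5,4,2,1,3,0,3,2,1,13,0,5,4,2,1,3,0,3,2,1,13,0,5,4,2,1,3,0,3,2,1,13] 74 1 1,
  .bwd [3,2,0,3,2,0,3,2,0,3,2] 29 4 1,
  .bwd [3,1,2,4,5,0,12,1,2,3,0,3,1,2,4,5,0,12,1,2,3,0,3,1,2,4,5,0,12,1,2,3] 74 25 0,
  .bwd [3,0,3,0,3,0,3] 25 5 0,
  .bwd [1,3,0,1,3,0,1,3,0,1,3] 27 7 0,
  .bwd [12,1,2,3,0,3,1,2,4,5,0,12,1,2,3,0,3,1,2,4,5,0,12,1,2,3,0,3,1,2,4,5] 74 20 0,
  .bwd [3,4,2,1,0,3,2,1,0,3,2,1,0,3,2,1] 31 15 1,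
  .bwd [3,0,3,0,3,0,3] 25 1 0,
  .bwd [1,3,1,2,3,2,4,13,3,12,0,3] 69 2 1,
  .bwd [5,4,5,3,1,3,2,3,1,3,0,3,1,3,2,3,1,3] 60 18 0,
  .bwd [6,5,0,6,5,0,6,5] 61 4 0,
  .bwd [1,3,0,1,3,0,1,3,0,1,3] 27 4 0,
  .bwd [3,2,1,13,0,5,4,2,1,3,0,3,2,1,13,0,5,4,2,1,3,0,3,2,1,13,0,5,4,2,1,3] 74 7 1,
  .bwd [3,2,0,3,2,0,3,2,0,3,2] 29 10 1,
  .bwd [3,0,12,3,13,4,3,2,3,2,1,3,1] 68 11 0,
  .bwd [3,1,2,4,5,0,12,1,2,3,0,3,1,2,4,5,0,12,1,2,3,0,3,1,2,4,5,0,12,1,2,3] 74 14 0,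
  .bwd [3,0,3,0,3,0,3] 25 7 0,
  .bwd [1,3,0,1,3,0,1,3,0,1,3] 27 10 0,
  .bwd [12,3,13,4,3,2,3,2,1,3,1,0,3] 68 13 0,
  .bwd [5,7,0,5,7,0,5,7] 61 7 1,
  .bwd [2,3,0,2,3,0,2,3,0,2,3] 29 4 0,
  .bwd [5,4,14,5,0,6,1,8,2,10,3,5,3,11,2,9,1,7] 75 16 1,
  .bwd [3,1,0,3,1,0,3,1,0,3,1] 27 4 1,
  .sub [] [] 0 0,
  .bwd [3,1,0,3,1,0,3,1,0,3,1] 27 7 1]
noncomputable def RR1 : List Rule := [.bwd [1] 1 0 0,
  .bwd [2,1,2] 20 2 0,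
  .bwd [9,3,8,1,3] 44 5 0,
  .bwd [0,1,0] 18 1 0,
  .bwd [15,1,14] 85 1 0,
  .bwd [5,3,1,3,1,5] 58 1 0,
  .bwd [14,1,15] 85 3 0,
  .bwd [4,1,4] 22 1 0,
  .bwd [10,1,11] 48 0 0,
  .bwd [11,1,10] 48 2 0,
  .bwd [6,1,7] 34 0 0,
  .bwd [7,1,6] 34 2 0,
  .bwd [12,1,12] 66 2 0,
  .bwd [13,1,13] 66 1 1,
  .bwd [9,1,9] 41 1 1,
  .gen [18] [1] 1 0 0,
  .bwd [8,1,8] 41 2 0,
  .bwd [3,1,8,3,9,3] 43 4 0,
  .bwd [3,1,5,1,5,3] 58 4 0,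
  .bwd [5,1,5,3,1,3] 58 6 0,
  .bwd [0,1,0] 18 3 0,
  .bwd [2,1,2] 20 0 0,
  .bwd [8,3,9,3,1,3] 43 6 0,
  .bwd [3,1,9,3,8] 44 3 0,
  .bwd [13,1,13] 66 3 1,
  .bwd [9,1,9] 41 3 1,
  .bwd [12,1,12] 66 0 0,
  .bwd [5,1,3,1,3,5] 58 5 1,
  .bwd [8,5,1,8,5,1,8,5] 62 1 0,
  .bwd [8,1,8] 41 0 0,
  .bwd [4,1,4] 22 3 0,
  .bwd [3,1,3,5,1,5] 58 0 1,
  .bwd [3,8,3,9,1,3] 43 2 1,
  .bwd [3,2,1,3,2,1,3,2,1,3,2] 30 1 1,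
  .bwd [3,0,1,3,0,1,3,0,1,3,0] 27 2 0,
  .bwd [3,5,1,5,1,3] 58 2 1,
  .bwd [5,9,1,5,9,1,5,9] 62 1 1,
  .bwd [3,1,3,8,3,9] 43 0 1,
  .bwd [3,1,0,3,0,13,3,12,4,2,3,2] 69 7 0,
  .bwd [0,3,0,13,3,12,4,2,3,2,1,3] 69 9 0,
  .bwd [7,0,5,15,4,5,0,6,1,8,2,10,3,5,3,11,2,9] 75 14 0,
  .bwd [0,3,2,1,0,3,2,1,0,3,2,1,0,3,4,2] 31 2 1,
  .bwd [2,3,1,2,3,1,2,3,1,2,3] 30 1 0,
  .bwd [2,3,0,1,2,3,0,1,2,3,0,1,2,4,3,0] 31 2 0,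
  .bwd [3,1,2,3,2,4,13,3,12,0,3,0] 69 3 1,
  .bwd [3,0,5,4,5,3,1,3,2,3,1,3,0,3,1,3,2,3] 60 16 0,
  .bwd [0,3,1,0,3,1,0,3,1,0,3] 27 3 1,
  .bwd [3,0,1,3,0,1,3,0,1,3,0] 27 8 0,
  .bwd [2,4,5,0,12,1,2,3,0,3,1,2,4,5,0,12,1,2,3,0,3,1,2,4,5,0,12,1,2,3,0,3] 74 27 0,
  .bwd [8,2,10,3,5,3,11,2,9,1,7,0,5,15,4,5,0,6] 75 4 0,
  .bwd [2,3,0,1,2,3,0,1,2,4,3,0,1,2,3,0] 31 6 0,
  .bwd [0,3,2,1,0,3,2,1,0,3,4,2,1,0,3,2] 31 6 1,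
  .bwd [13,0,5,4,2,1,3,0,3,2,1,13,0,5,4,2,1,3,0,3,2,1,13,0,5,4,2,1,3,0,3,2] 74 10 1,
  .bwd [8,5,1,8,5,1,8,5] 62 4 0,
  .bwd [3,1,3,1,3,1,3] 26 5 0,
  .bwd [2,3,2,4,13,3,12,0,3,0,1,3] 69 5 1,
  .bwd [3,0,3,2,1,13,0,5,4,2,1,3,0,3,2,1,13,0,5,4,2,1,3,0,3,2,1,13,0,5,4,2] 74 5 1,
  .bwd [3,2,3,1,3,0,5,4,5,3,1,3,2,3,1,3,0,3] 60 12 0,
  .bwd [3,0,3,1,3,2,3,1,3,0,5,4,5,3,1,3,2,3] 60 8 0,
  .bwd [2,3,1,2,3,1,2,3,1,2,3] 30 7 0,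
  .bwd [0,3,2,1,0,3,4,2,1,0,3,2,1,0,3,2] 31 10 1,
  .bwd [3,1,3,1,3,1,3] 26 3 0,
  .bwd [2,3,0,1,2,4,3,0,1,2,3,0,1,2,3,0] 31 10 0,
  .bwd [3,0,1,3,0,1,3,0,1,3,0] 27 5 0,
  .bwd [3,2,3,1,3,0,3,1,3,2,3,1,3,0,5,4,5,3] 60 4 0,
  .bwd [2,4,5,0,12,1,2,3,0,3,1,2,4,5,0,12,1,2,3,0,3,1,2,4,5,0,12,1,2,3,0,3] 74 5 0,
  .bwd [0,3,4,2,1,0,3,2,1,0,3,2,1,0,3,2] 31 14 1,
  .bwd [2,3,0,3,1,2,4,5,0,12,1,2,3,0,3,1,2,4,5,0,12,1,2,3,0,3,1,2,4,5,0,12] 74 11 0,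
  .bwd [0,3,1,0,3,1,0,3,1,0,3] 27 0 1,
  .bwd [3,0,1,3,0,1,3,0,1,3,0] 27 11 0,
  .bwd [2,4,3,0,1,2,3,0,1,2,3,0,1,2,3,0] 31 14 0,
  .bwd [3,1,3,1,3,1,3] 26 1 0,
  .bwd [3,1,3,1,3,1,3] 26 7 0,
  .bwd [3,1,2,3,2,3,4,12,3,13,0,3,0] 68 3 1,
  .bwd [3,1,0,3,0,12,3,13,4,3,2,3,2] 68 8 0,
  .bwd [2,3,1,2,3,1,2,3,1,2,3] 30 4 0,
  .bwd [0,3,1,0,3,1,0,3,1,0,3] 27 9 1,
  .bwd [3,2,1,3,2,1,3,2,1,3,2] 30 4 1,
  .bwd [0,3,0,12,3,13,4,3,2,3,2,1,3] 68 10 0,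
  .bwd [2,4,5,0,12,1,2,3,0,3,1,2,4,5,0,12,1,2,3,0,3,1,2,4,5,0,12,1,2,3,0,3] 74 16 0,
  .bwd [2,3,1,2,3,1,2,3,1,2,3] 30 10 0,
  .bwd [5,9,1,5,9,1,5,9] 62 7 1,
  .bwd [3,2,3,1,3,5,4,5,0,3,1,3,2,3,1,3,0,3] 60 10 1,
  .bwd [7,0,5,4,14,5,0,6,1,8,2,10,3,5,3,11,2,9] 75 14 1,
  .bwd [2,3,0,3,1,2,4,5,0,12,1,2,3,0,3,1,2,4,5,0,12,1,2,3,0,3,1,2,4,5,0,12] 74 22 0,
  .bwd [0,3,1,0,3,1,0,3,1,0,3] 27 6 1,
  .bwd [3,0,3,1,3,2,3,1,3,5,4,5,0,3,1,3,2,3] 60 6 1,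
  .sub [] [] 1 0,
  .bwd [3,2,1,3,2,1,3,2,1,3,2] 30 7 1]
noncomputable def RR2 : List Rule := [.bwd [2] 2 0 0,
  .bwd [1,2,1] 20 1 0,
  .bwd [0,2,0] 19 1 0,
  .bwd [11,3,10,2,3] 51 5 0,
  .bwd [15,2,14] 86 1 0,
  .bwd [5,3,2,3,2,5] 59 1 0,
  .bwd [14,2,15] 86 3 0,
  .bwd [4,2,4] 23 1 0,
  .bwd [6,2,7] 35 0 0,
  .bwd [13,2,13] 67 1 1,
  .bwd [7,2,6] 35 2 0,
  .bwd [8,2,9] 42 0 0,
  .bwd [12,2,12] 67 2 0,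
  .bwd [9,2,8] 42 2 0,
  .bwd [11,2,11] 49 1 1,
  .gen [18] [2] 2 0 0,
  .bwd [10,2,10] 49 2 0,
  .bwd [3,2,10,3,11,3] 50 4 0,
  .bwd [11,2,11] 49 3 1,
  .bwd [3,2,5,2,5,3] 59 4 0,
  .bwd [1,2,1] 20 3 0,
  .bwd [10,2,10] 49 0 0,
  .bwd [0,2,0] 19 3 0,
  .bwd [10,3,11,3,2,3] 50 6 0,
  .bwd [5,2,5,3,2,3] 59 6 0,
  .bwd [3,2,11,3,10] 51 3 0,
  .bwd [5,2,3,2,3,5] 59 5 1,
  .bwd [12,2,12] 67 0 0,
  .bwd [13,2,13] 67 3 1,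
  .bwd [3,10,3,11,2,3] 50 2 1,
  .bwd [10,5,2,10,5,2,10,5] 63 1 0,
  .bwd [3,2,3,5,2,5] 59 0 1,
  .bwd [4,2,4] 23 3 0,
  .bwd [3,1,2,3,1,2,3,1,2,3,1] 30 2 0,
  .bwd [3,0,2,3,0,2,3,0,2,3,0] 29 2 0,
  .bwd [3,2,3,10,3,11] 50 0 1,
  .bwd [3,2,4,13,3,12,0,3,0,1,3,1] 69 6 1,
  .bwd [3,5,2,5,2,3] 59 2 1,
  .bwd [0,3,2,0,3,2,0,3,2,0,3] 29 3 1,
  .bwd [5,11,2,5,11,2,5,11] 63 1 1,
  .bwd [1,3,2,1,3,2,1,3,2,1,3] 30 3 1,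
  .bwd [3,1,3,0,5,4,5,3,1,3,2,3,1,3,0,3,1,3] 60 14 0,
  .bwd [1,3,1,0,3,0,13,3,12,4,2,3] 69 6 0,
  .bwd [10,3,5,3,11,2,9,1,7,0,5,15,4,5,0,6,1,8] 75 6 0,
  .bwd [3,0,1,2,3,0,1,2,3,0,1,2,4,3,0,1] 31 3 0,
  .bwd [3,2,1,3,1,0,3,0,13,3,12,4] 69 4 0,
  .bwd [3,0,2,3,0,2,3,0,2,3,0] 29 8 0,
  .bwd [10,5,2,10,5,2,10,5] 63 4 0,
  .bwd [4,5,0,12,1,2,3,0,3,1,2,4,5,0,12,1,2,3,0,3,1,2,4,5,0,12,1,2,3,0,3,1] 74 28 0,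
  .bwd [3,0,1,2,4,3,0,1,2,3,0,1,2,3,0,1] 31 11 0,
  .bwd [9,1,7,0,5,15,4,5,0,6,1,8,2,10,3,5,3,11] 75 12 0,
  .bwd [3,0,1,2,3,0,1,2,4,3,0,1,2,3,0,1] 31 7 0,
  .bwd [1,3,2,1,3,2,1,3,2,1,3] 30 0 1,
  .bwd [3,1,2,3,1,2,3,1,2,3,1] 30 5 0,
  .bwd [1,0,3,2,1,0,3,2,1,0,3,2,1,0,3,4] 31 1 1,
  .bwd [3,1,2,3,1,2,3,1,2,3,1] 30 11 0,
  .bwd [0,3,2,0,3,2,0,3,2,0,3] 29 0 1,
  .bwd [4,3,0,1,2,3,0,1,2,3,0,1,2,3,0,1] 31 15 0,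
  .bwd [3,0,2,3,0,2,3,0,2,3,0] 29 5 0,
  .bwd [3,2,3,4,12,3,13,0,3,0,1,3,1] 68 6 1,
  .bwd [3,0,3,1,2,4,5,0,12,1,2,3,0,3,1,2,4,5,0,12,1,2,3,0,3,1,2,4,5,0,12,1] 74 23 0,
  .bwd [1,3,0,3,2,1,13,0,5,4,2,1,3,0,3,2,1,13,0,5,4,2,1,3,0,3,2,1,13,0,5,4] 74 4 1,
  .bwd [1,0,3,2,1,0,3,2,1,0,3,4,2,1,0,3] 31 5 1,
  .bwd [3,2,3,2,3,2,3] 28 3 0,
  .bwd [3,0,3,1,2,4,5,0,12,1,2,3,0,3,1,2,4,5,0,12,1,2,3,0,3,1,2,4,5,0,12,1] 74 1 0,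
  .bwd [1,0,3,2,1,0,3,4,2,1,0,3,2,1,0,3] 31 9 1,
  .bwd [3,1,3,0,3,1,3,2,3,1,3,0,5,4,5,3,1,3] 60 6 0,
  .bwd [1,0,3,4,2,1,0,3,2,1,0,3,2,1,0,3] 31 13 1,
  .bwd [4,5,0,12,1,2,3,0,3,1,2,4,5,0,12,1,2,3,0,3,1,2,4,5,0,12,1,2,3,0,3,1] 74 17 0,
  .bwd [4,5,0,12,1,2,3,0,3,1,2,4,5,0,12,1,2,3,0,3,1,2,4,5,0,12,1,2,3,0,3,1] 74 6 0,
  .bwd [4,13,3,12,0,3,0,1,3,1,2,3] 69 8 1,
  .bwd [3,2,1,3,1,0,3,0,12,3,13,4,3] 68 5 0,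
  .bwd [3,0,3,1,2,4,5,0,12,1,2,3,0,3,1,2,4,5,0,12,1,2,3,0,3,1,2,4,5,0,12,1] 74 12 0,
  .bwd [3,1,3,5,4,5,0,3,1,3,2,3,1,3,0,3,1,3] 60 12 1,
  .bwd [3,1,2,3,1,2,3,1,2,3,1] 30 8 0,
  .bwd [3,2,3,2,3,2,3] 28 5 0,
  .bwd [10,5,2,10,5,2,10,5] 63 7 0,
  .bwd [3,2,3,2,3,2,3] 28 1 0,
  .bwd [3,0,2,3,0,2,3,0,2,3,0] 29 11 0,
  .bwd [1,13,0,5,4,2,1,3,0,3,2,1,13,0,5,4,2,1,3,0,3,2,1,13,0,5,4,2,1,3,0,3] 74 9 1,
  .bwd [1,3,1,0,3,0,12,3,13,4,3,2,3] 68 7 0,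
  .bwd [5,11,2,5,11,2,5,11] 63 7 1,
  .bwd [3,4,12,3,13,0,3,0,1,3,1,2,3] 68 8 1,
  .sub [] [] 2 0]
noncomputable def RR3 : List Rule := [.bwd [3] 3 0 0,
  .bwd [1,9,3,8,1] 44 4 0,
  .bwd [2,11,3,10,2] 51 4 0,
  .bwd [0,7,3,6,0] 37 4 0,
  .bwd [4,3,4] 24 1 0,
  .bwd [5,3,5,3,5] 56 1 0,
  .bwd [7,3,0,3,0,6] 36 1 0,
  .bwd [6,0,3,0,7] 37 1 0,
  .bwd [10,2,3,2,11] 51 1 0,
  .bwd [8,1,3,1,9] 44 1 0,
  .gen [18] [3] 3 0 0,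
  .bwd [9,3,1,3,1,8] 43 1 0,
  .bwd [11,3,2,3,2,10] 50 1 0,
  .bwd [13,4,3,2,3,2,1,3,1,0,3,0,12] 68 1 0,
  .bwd [12,4,2,3,2,1,3,1,0,3,0,13] 69 1 0,
  .bwd [0,3,0,5,0,5] 57 3 0,
  .bwd [4,3,4] 24 3 0,
  .bwd [2,10,3,11,3,2] 50 5 0,
  .bwd [0,6,3,7,3,0] 36 5 0,
  .bwd [1,8,3,9,3,1] 43 5 0,
  .bwd [10,3,11,2,3,2] 50 3 1,
  .bwd [5,3,5,3,5] 56 5 0,
  .bwd [0,5,0,5,3,0] 57 5 0,
  .bwd [8,3,9,1,3,1] 43 3 1,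
  .bwd [6,3,7,0,3,0] 36 3 1,
  .bwd [13,0,3,0,1,3,1,2,3,2,3,4,12] 68 12 1,
  .bwd [2,5,2,5,3,2] 59 5 0,
  .bwd [7,0,3,0,3,6] 36 5 1,
  .bwd [1,5,1,5,3,1] 58 5 0,
  .bwd [1,3,1,8,3,9] 43 3 0,
  .bwd [9,1,3,1,3,8] 43 5 1,
  .bwd [2,3,2,10,3,11] 50 3 0,
  .bwd [12,0,3,0,1,3,1,2,3,2,4,13] 69 11 1,
  .bwd [1,3,1,5,1,5] 58 3 0,
  .bwd [11,2,3,2,3,10] 50 5 1,
  .bwd [0,3,0,6,3,7] 36 3 0,
  .bwd [5,0,5,0,3,0] 57 3 1,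
  .bwd [5,1,5,1,3,1] 58 3 1,
  .bwd [2,3,2,5,2,5] 59 3 0,
  .bwd [2,3,10,3,11,2] 50 1 1,
  .bwd [0,3,6,3,7,0] 36 1 1,
  .bwd [1,3,8,3,9,1] 43 1 1,
  .bwd [0,3,5,0,5,0] 57 1 1,
  .bwd [2,3,5,2,5,2] 59 1 1,
  .bwd [1,3,5,1,5,1] 58 1 1,
  .bwd [5,2,5,2,3,2] 59 3 1,
  .bwd [11,2,9,1,7,0,5,15,4,5,0,6,1,8,2,10,3,5] 75 10 0,
  .bwd [5,3,5,3,5] 56 3 0,
  .bwd [2,3,2,1,3,1,0,3,0,12,3,13,4] 68 4 0,
  .bwd [5,3,11,2,9,1,7,0,5,15,4,5,0,6,1,8,2,10] 75 8 0,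
  .bwd [1,2,4,5,0,12,1,2,3,0,3,1,2,4,5,0,12,1,2,3,0,3,1,2,4,5,0,12,1,2,3,0] 74 26 0,
  .bwd [1,2,3,1,2,3,1,2,3,1,2] 30 3 0,
  .bwd [2,1,3,1,0,3,0,13,3,12,4,2] 69 5 0,
  .bwd [1,0,3,1,0,3,1,0,3,1,0] 27 2 1,
  .bwd [0,1,2,4,3,0,1,2,3,0,1,2,3,0,1,2] 31 12 0,
  .bwd [0,2,3,0,2,3,0,2,3,0,2] 29 3 0,
  .bwd [2,0,3,2,0,3,2,0,3,2,0] 29 2 1,
  .bwd [0,3,0,3,0,3,0] 25 2 0,
  .bwd [0,1,3,0,1,3,0,1,3,0,1] 27 3 0,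
  .bwd [2,1,3,2,1,3,2,1,3,2,1] 30 2 1,
  .bwd [1,0,3,0,13,3,12,4,2,3,2,1] 69 8 0,
  .bwd [2,3,1,3,0,5,4,5,3,1,3,2,3,1,3,0,3,1] 60 13 0,
  .bwd [0,1,2,3,0,1,2,3,0,1,2,3,0,1,2,4] 31 0 0,
  .bwd [2,1,0,3,2,1,0,3,2,1,0,3,4,2,1,0] 31 4 1,
  .bwd [0,2,3,0,2,3,0,2,3,0,2] 29 9 0,
  .bwd [1,2,3,1,2,3,1,2,3,1,2] 30 9 0,
  .bwd [0,1,2,3,0,1,2,3,0,1,2,4,3,0,1,2] 31 4 0,
  .bwd [0,1,3,0,1,3,0,1,3,0,1] 27 9 0,
  .bwd [1,2,3,2,4,13,3,12,0,3,0,1] 69 4 1,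
  .bwd [1,3,0,3,1,3,2,3,1,3,0,5,4,5,3,1,3,2] 60 7 0,
  .bwd [0,1,3,1,2,3,2,4,13,3,12,0] 69 1 1,
  .bwd [4,12,3,13,0,3,0,1,3,1,2,3,2] 68 9 1,
  .bwd [2,4,13,3,12,0,3,0,1,3,1,2] 69 7 1,
  .bwd [2,3,2,3,2,3,2] 28 2 0,
  .bwd [1,3,0,5,4,5,3,1,3,2,3,1,3,0,3,1,3,2] 60 15 0,
  .bwd [0,1,2,3,0,1,2,4,3,0,1,2,3,0,1,2] 31 8 0,
  .bwd [0,3,1,2,4,5,0,12,1,2,3,0,3,1,2,4,5,0,12,1,2,3,0,3,1,2,4,5,0,12,1,2] 74 2 0,
  .bwd [1,3,2,3,1,3,0,5,4,5,3,1,3,2,3,1,3,0] 60 11 0,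
  .bwd [0,3,1,2,4,5,0,12,1,2,3,0,3,1,2,4,5,0,12,1,2,3,0,3,1,2,4,5,0,12,1,2] 74 24 0,
  .bwd [0,3,2,1,13,0,5,4,2,1,3,0,3,2,1,13,0,5,4,2,1,3,0,3,2,1,13,0,5,4,2,1] 74 6 1,
  .bwd [1,3,2,3,1,3,0,3,1,3,2,3,1,3,0,5,4,5] 60 3 0,
  .bwd [1,3,1,3,1,3,1] 26 2 0,
  .bwd [0,5,4,5,3,1,3,2,3,1,3,0,3,1,3,2,3,1] 60 17 0,
  .bwd [0,2,3,0,2,3,0,2,3,0,2] 29 6 0,
  .bwd [0,3,1,3,2,3,1,3,0,5,4,5,3,1,3,2,3,1] 60 9 0,
  .bwd [2,3,2,3,2,3,2] 28 4 0,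
  .bwd [0,2,3,0,2,3,0,2,3,0,2] 29 0 0,
  .bwd [2,1,0,3,2,1,0,3,4,2,1,0,3,2,1,0] 31 8 1,
  .bwd [1,3,0,3,1,3,2,3,1,3,5,4,5,0,3,1,3,2] 60 5 1,
  .bwd [0,12,3,13,4,3,2,3,2,1,3,1,0] 68 12 0,
  .bwd [0,3,1,2,4,5,0,12,1,2,3,0,3,1,2,4,5,0,12,1,2,3,0,3,1,2,4,5,0,12,1,2] 74 13 0,
  .bwd [2,1,0,3,4,2,1,0,3,2,1,0,3,2,1,0] 31 12 1,
  .bwd [2,1,3,1,0,3,0,12,3,13,4,3,2] 68 6 0,
  .bwd [2,1,3,2,1,3,2,1,3,2,1] 30 11 1,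
  .bwd [2,1,13,0,5,4,2,1,3,0,3,2,1,13,0,5,4,2,1,3,0,3,2,1,13,0,5,4,2,1,3,0] 74 8 1,
  .bwd [1,3,1,3,1,3,1] 26 0 0,
  .bwd [0,13,3,12,4,2,3,2,1,3,1,0] 69 11 0,
  .bwd [2,0,3,2,0,3,2,0,3,2,0] 29 11 1,
  .bwd [1,3,1,3,1,3,1] 26 6 0,
  .bwd [1,2,3,1,2,3,1,2,3,1,2] 30 0 0,
  .bwd [2,0,3,2,0,3,2,0,3,2,0] 29 5 1,
  .bwd [2,3,2,3,2,3,2] 28 6 0,
  .bwd [0,1,3,1,2,3,2,3,4,12,3,13,0] 68 1 1,
  .bwd [2,1,3,2,1,3,2,1,3,2,1] 30 5 1,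
  .bwd [4,2,1,0,3,2,1,0,3,2,1,0,3,2,1,0] 31 16 1,
  .bwd [11,2,9,1,7,0,5,4,14,5,0,6,1,8,2,10,3,5] 75 10 1,
  .bwd [1,2,3,1,2,3,1,2,3,1,2] 30 6 0,
  .bwd [0,3,0,3,0,3,0] 25 4 0,
  .bwd [1,0,3,0,12,3,13,4,3,2,3,2,1] 68 9 0,
  .bwd [0,1,3,0,1,3,0,1,3,0,1] 27 6 0,
  .bwd [2,3,4,12,3,13,0,3,0,1,3,1,2] 68 7 1,
  .sub [] [] 3 0,
  .bwd [0,1,3,0,1,3,0,1,3,0,1] 27 0 0]
noncomputable def RR4 : List Rule := [.bwd [4] 4 0 0,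
  .bwd [3,4,3] 24 2 0,
  .bwd [1,4,1] 22 2 0,
  .bwd [2,4,2] 23 2 0,
  .bwd [0,4,0] 21 2 0,
  .bwd [13,4,12] 70 1 0,
  .bwd [12,4,13] 70 3 0,
  .bwd [11,4,10] 52 1 0,
  .bwd [9,4,8] 45 1 0,
  .bwd [14,4,14] 80 2 0,
  .bwd [10,4,11] 52 3 0,
  .bwd [7,4,6] 38 1 0,
  .bwd [15,4,15] 80 1 1,
  .bwd [6,4,7] 38 3 0,
  .bwd [8,4,9] 45 3 0,
  .bwd [5,3,1,3,2,3,1,3,0,3,1,3,2,3,1,3,0,5] 60 1 0,
  .bwd [3,4,3] 24 0 0,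
  .bwd [15,4,15] 80 3 1,
  .gen [18] [4] 4 0 0,
  .bwd [2,4,2] 23 0 0,
  .bwd [14,4,14] 80 0 0,
  .bwd [14,5,0,6,1,8,2,10,3,5,3,11,2,9,1,7,0,5] 75 18 1,
  .bwd [5,0,3,1,3,2,3,1,3,0,3,1,3,2,3,1,3,5] 60 17 1,
  .bwd [1,4,1] 22 0 0,
  .bwd [0,4,0] 21 0 0,
  .bwd [13,3,12,0,3,0,1,3,1,2,3,2] 69 9 1,
  .bwd [2,3,2,1,3,1,0,3,0,13,3,12] 69 3 0,
  .bwd [2,1,3,0,3,2,1,13,0,5,4,2,1,3,0,3,2,1,13,0,5,4,2,1,3,0,3,2,1,13,0,5] 74 3 1,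
  .bwd [12,3,13,0,3,0,1,3,1,2,3,2,3] 68 10 1,
  .bwd [5,0,6,1,8,2,10,3,5,3,11,2,9,1,7,0,5,15] 75 0 0,
  .bwd [3,2,3,2,1,3,1,0,3,0,12,3,13] 68 3 0,
  .bwd [3,0,1,2,3,0,1,2,3,0,1,2,3,0,1,2] 31 16 0,
  .bwd [2,1,0,3,2,1,0,3,2,1,0,3,2,1,0,3] 31 0 1,
  .bwd [5,0,12,1,2,3,0,3,1,2,4,5,0,12,1,2,3,0,3,1,2,4,5,0,12,1,2,3,0,3,1,2] 74 7 0,
  .bwd [5,0,12,1,2,3,0,3,1,2,4,5,0,12,1,2,3,0,3,1,2,4,5,0,12,1,2,3,0,3,1,2] 74 29 0,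
  .bwd [5,0,12,1,2,3,0,3,1,2,4,5,0,12,1,2,3,0,3,1,2,4,5,0,12,1,2,3,0,3,1,2] 74 18 0]
noncomputable def RR5 : List Rule := [.bwd [5] 5 0 0,
  .bwd [3,5,3,5,3] 56 2 0,
  .bwd [3,0,3,0,5,0] 57 2 0,
  .bwd [3,1,3,1,5,1] 58 2 0,
  .bwd [3,2,3,2,5,2] 59 2 0,
  .bwd [2,5,3,2,3,2] 59 0 0,
  .bwd [3,5,3,5,3] 56 0 0,
  .bwd [1,5,3,1,3,1] 58 0 0,
  .bwd [0,5,3,0,3,0] 57 0 0,
  .bwd [0,5,0,3,0,3] 57 4 1,
  .gen [18] [5] 5 0 0,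
  .bwd [1,5,1,3,1,3] 58 4 1,
  .bwd [0,6,5,0,6,5,0,6] 61 3 0,
  .bwd [3,1,3,2,3,1,3,0,3,1,3,2,3,1,3,0,5,4] 60 2 0,
  .bwd [15,4,5,0,6,1,8,2,10,3,5,3,11,2,9,1,7,0] 75 17 0,
  .bwd [1,8,5,1,8,5,1,8] 62 3 0,
  .bwd [2,5,2,3,2,3] 59 4 1,
  .bwd [0,6,1,8,2,10,3,5,3,11,2,9,1,7,0,5,4,14] 75 1 1,
  .bwd [2,3,2,3,5,2] 59 6 1,
  .bwd [11,2,5,11,2,5,11,2] 63 8 1,
  .bwd [2,10,5,2,10,5,2,10] 63 3 0,
  .bwd [1,3,1,3,5,1] 58 6 1,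
  .bwd [0,3,0,3,5,0] 57 6 1,
  .bwd [9,1,5,9,1,5,9,1] 62 8 1,
  .bwd [0,3,1,3,2,3,1,3,0,3,1,3,2,3,1,3,5,4] 60 18 1,
  .bwd [7,0,5,7,0,5,7,0] 61 8 1,
  .bwd [4,5,3,1,3,2,3,1,3,0,3,1,3,2,3,1,3,0] 60 0 0,
  .bwd [0,6,1,8,2,10,3,5,3,11,2,9,1,7,0,5,15,4] 75 1 0,
  .bwd [7,0,5,7,0,5,7,0] 61 2 1,
  .bwd [9,1,5,9,1,5,9,1] 62 2 1,
  .bwd [0,12,1,2,3,0,3,1,2,4,5,0,12,1,2,3,0,3,1,2,4,5,0,12,1,2,3,0,3,1,2,4] 74 30 0,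
  .bwd [1,8,5,1,8,5,1,8] 62 6 0,
  .bwd [11,2,5,11,2,5,11,2] 63 2 1,
  .bwd [3,5,3,5,3] 56 4 0,
  .bwd [2,10,5,2,10,5,2,10] 63 0 0,
  .bwd [0,6,5,0,6,5,0,6] 61 6 0,
  .bwd [0,6,5,0,6,5,0,6] 61 0 0,
  .bwd [1,8,5,1,8,5,1,8] 62 0 0,
  .bwd [2,10,5,2,10,5,2,10] 63 6 0,
  .bwd [3,11,2,9,1,7,0,5,15,4,5,0,6,1,8,2,10,3] 75 9 0,
  .bwd [4,5,0,3,1,3,2,3,1,3,0,3,1,3,2,3,1,3] 60 16 1,
  .bwd [0,12,1,2,3,0,3,1,2,4,5,0,12,1,2,3,0,3,1,2,4,5,0,12,1,2,3,0,3,1,2,4] 74 8 0,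
  .bwd [11,2,5,11,2,5,11,2] 63 5 1,
  .bwd [9,1,5,9,1,5,9,1] 62 5 1,
  .bwd [4,2,1,3,0,3,2,1,13,0,5,4,2,1,3,0,3,2,1,13,0,5,4,2,1,3,0,3,2,1,13,0] 74 2 1,
  .bwd [4,14,5,0,6,1,8,2,10,3,5,3,11,2,9,1,7,0] 75 17 1,
  .bwd [7,0,5,7,0,5,7,0] 61 5 1,
  .bwd [0,12,1,2,3,0,3,1,2,4,5,0,12,1,2,3,0,3,1,2,4,5,0,12,1,2,3,0,3,1,2,4] 74 19 0,
  .bwd [3,11,2,9,1,7,0,5,4,14,5,0,6,1,8,2,10,3] 75 9 1,
  .bwd [4,2,1,3,0,3,2,1,13,0,5,4,2,1,3,0,3,2,1,13,0,5,4,2,1,3,0,3,2,1,13,0] 74 13 1,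
  .sub [] [] 5 0]
noncomputable def RR6 : List Rule := [.bwd [7] 6 0 0,
  .bwd [1,7,1] 34 1 0,
  .bwd [0,3,0,7,3] 37 2 0,
  .bwd [2,7,2] 35 1 0,
  .bwd [0,6,0] 33 1 0,
  .bwd [4,7,4] 38 0 0,
  .bwd [13,7,12] 71 1 1,
  .bwd [15,7,14] 81 1 0,
  .bwd [12,7,13] 71 0 0,
  .bwd [14,7,15] 81 0 1,
  .bwd [17,7,16] 87 1 0,
  .bwd [6,6] 32 1 0,
  .bwd [9,7,8] 53 1 1,
  .bwd [11,7,10] 54 1 1,
  .bwd [10,7,11] 54 0 0,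
  .bwd [8,7,9] 53 0 0,
  .bwd [16,7,17] 87 0 1,
  .bwd [3,7,0,3,0,3] 36 4 1,
  .bwd [3,7,3,0,3,0] 36 0 0,
  .bwd [0,6,0] 33 3 0,
  .gen [18] [6] 6 0 0,
  .bwd [6,6] 32 2 0,
  .bwd [5,0,6,5,0,6,5,0] 61 8 0,
  .bwd [5,0,6,5,0,6,5,0] 61 5 0,
  .bwd [5,0,6,5,0,6,5,0] 61 2 0,
  .bwd [1,8,2,10,3,5,3,11,2,9,1,7,0,5,15,4,5,0] 75 3 0,
  .bwd [1,8,2,10,3,5,3,11,2,9,1,7,0,5,4,14,5,0] 75 3 1,
  .sub [] [] 6 0]
noncomputable def RR7 : List Rule := [.bwd [6] 7 0 0,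
  .bwd [1,6,1] 34 3 0,
  .bwd [3,0,3,0,6,3] 36 2 0,
  .bwd [2,6,2] 35 3 0,
  .bwd [0,7,0] 33 2 1,
  .bwd [4,6,4] 38 2 0,
  .bwd [15,6,14] 81 2 1,
  .bwd [13,6,12] 71 2 0,
  .bwd [7,7] 32 1 1,
  .bwd [12,6,13] 71 3 1,
  .bwd [17,6,16] 87 2 1,
  .bwd [14,6,15] 81 3 0,
  .bwd [0,5,7,0,5,7,0,5] 61 3 1,
  .bwd [11,6,10] 54 2 0,
  .bwd [9,6,8] 53 2 0,
  .bwd [16,6,17] 87 3 0,
  .bwd [8,6,9] 53 3 1,
  .bwd [10,6,11] 54 3 1,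
  .bwd [3,6,0,3,0] 37 0 0,
  .bwd [7,7] 32 2 1,
  .bwd [0,3,0,3,6,3] 36 6 1,
  .gen [18] [7] 7 0 0,
  .bwd [0,7,0] 33 0 1,
  .bwd [0,5,15,4,5,0,6,1,8,2,10,3,5,3,11,2,9,1] 75 15 0,
  .bwd [0,5,7,0,5,7,0,5] 61 0 1,
  .bwd [0,5,7,0,5,7,0,5] 61 6 1,
  .bwd [0,5,4,14,5,0,6,1,8,2,10,3,5,3,11,2,9,1] 75 15 1]
noncomputable def RR8 : List Rule := [.bwd [9] 8 0 0,
  .bwd [1,3,1,9,3] 44 2 0,
  .bwd [1,8,1] 41 1 0,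
  .bwd [2,9,2] 42 1 0,
  .bwd [0,9,0] 40 1 0,
  .bwd [4,9,4] 45 0 0,
  .bwd [12,9,13] 72 0 0,
  .bwd [15,9,14] 82 1 0,
  .bwd [13,9,12] 72 1 1,
  .bwd [17,9,16] 88 1 0,
  .bwd [14,9,15] 82 0 1,
  .bwd [8,8] 39 1 0,
  .bwd [6,9,7] 53 0 1,
  .bwd [7,9,6] 53 1 0,
  .bwd [11,9,10] 55 1 1,
  .bwd [16,9,17] 88 0 1,
  .bwd [10,9,11] 55 0 0,
  .bwd [3,9,1,3,1,3] 43 4 1,
  .bwd [3,9,3,1,3,1] 43 0 0,
  .bwd [1,8,1] 41 3 0,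
  .bwd [8,8] 39 2 0,
  .gen [18] [8] 8 0 0,
  .bwd [5,1,8,5,1,8,5,1] 62 5 0,
  .bwd [5,1,8,5,1,8,5,1] 62 8 0,
  .bwd [5,1,8,5,1,8,5,1] 62 2 0,
  .bwd [2,10,3,5,3,11,2,9,1,7,0,5,15,4,5,0,6,1] 75 5 0,
  .sub [] [] 8 0]
noncomputable def RR9 : List Rule := [.bwd [8] 9 0 0,
  .bwd [3,1,3,1,8,3] 43 2 0,
  .bwd [2,8,2] 42 3 0,
  .bwd [0,8,0] 40 3 0,
  .bwd [1,9,1] 41 2 1,
  .bwd [4,8,4] 45 2 0,
  .bwd [15,8,14] 82 2 1,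
  .bwd [13,8,12] 72 2 0,
  .bwd [12,8,13] 72 3 1,
  .bwd [17,8,16] 88 2 1,
  .bwd [14,8,15] 82 3 0,
  .bwd [9,9] 39 1 1,
  .bwd [6,8,7] 53 3 0,
  .bwd [7,8,6] 53 2 1,
  .bwd [1,5,9,1,5,9,1,5] 62 3 1,
  .bwd [11,8,10] 55 2 0,
  .bwd [16,8,17] 88 3 0,
  .bwd [3,8,1,3,1] 44 0 0,
  .bwd [10,8,11] 55 3 1,
  .bwd [9,9] 39 2 1,
  .bwd [1,3,1,3,8,3] 43 6 1,
  .gen [18] [9] 9 0 0,
  .bwd [1,9,1] 41 0 1,
  .bwd [1,7,0,5,15,4,5,0,6,1,8,2,10,3,5,3,11,2] 75 13 0,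
  .bwd [1,5,9,1,5,9,1,5] 62 0 1]
noncomputable def RR10 : List Rule := [.bwd [11] 10 0 0,
  .bwd [1,11,1] 48 1 0,
  .bwd [2,3,2,11,3] 51 2 0,
  .bwd [0,11,0] 47 1 0,
  .bwd [2,10,2] 49 1 0,
  .bwd [4,11,4] 52 0 0,
  .bwd [15,11,14] 83 1 0,
  .bwd [13,11,12] 73 1 1,
  .bwd [12,11,13] 73 0 0,
  .bwd [17,11,16] 89 1 0,
  .bwd [14,11,15] 83 0 1,
  .bwd [6,11,7] 54 0 1,
  .bwd [9,11,8] 55 1 0,
  .bwd [7,11,6] 54 1 0,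
  .bwd [10,10] 46 1 0,
  .bwd [8,11,9] 55 0 1,
  .bwd [16,11,17] 89 0 1,
  .bwd [3,11,2,3,2,3] 50 4 1,
  .bwd [2,10,2] 49 3 0,
  .bwd [3,11,3,2,3,2] 50 0 0,
  .bwd [10,10] 46 2 0,
  .gen [18] [10] 10 0 0,
  .bwd [5,2,10,5,2,10,5,2] 63 8 0,
  .bwd [5,2,10,5,2,10,5,2] 63 5 0,
  .bwd [5,2,10,5,2,10,5,2] 63 2 0,
  .bwd [3,5,3,11,2,9,1,7,0,5,15,4,5,0,6,1,8,2] 75 7 0,
  .bwd [3,5,3,11,2,9,1,7,0,5,4,14,5,0,6,1,8,2] 75 7 1,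
  .sub [] [] 10 0]
noncomputable def RR11 : List Rule := [.bwd [10] 11 0 0,
  .bwd [1,10,1] 48 3 0,
  .bwd [3,2,3,2,10,3] 50 2 0,
  .bwd [0,10,0] 47 3 0,
  .bwd [2,11,2] 49 2 1,
  .bwd [4,10,4] 52 2 0,
  .bwd [15,10,14] 83 2 1,
  .bwd [13,10,12] 73 2 0,
  .bwd [12,10,13] 73 3 1,
  .bwd [17,10,16] 89 2 1,
  .bwd [14,10,15] 83 3 0,
  .bwd [7,10,6] 54 2 1,
  .bwd [9,10,8] 55 2 1,
  .bwd [6,10,7] 54 3 0,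
  .bwd [2,5,11,2,5,11,2,5] 63 3 1,
  .bwd [11,11] 46 1 1,
  .bwd [8,10,9] 55 3 0,
  .bwd [16,10,17] 89 3 0,
  .bwd [11,11] 46 2 1,
  .bwd [3,10,2,3,2] 51 0 0,
  .bwd [2,11,2] 49 0 1,
  .gen [18] [11] 11 0 0,
  .bwd [2,3,2,3,10,3] 50 6 1,
  .bwd [2,9,1,7,0,5,15,4,5,0,6,1,8,2,10,3,5,3] 75 11 0,
  .bwd [2,5,11,2,5,11,2,5] 63 0 1,
  .bwd [2,5,11,2,5,11,2,5] 63 6 1,
  .bwd [2,9,1,7,0,5,4,14,5,0,6,1,8,2,10,3,5,3] 75 11 1]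
noncomputable def RR12 : List Rule := [.bwd [13] 12 0 0,
  .bwd [1,12,1] 66 1 0,
  .bwd [0,12,0] 65 1 0,
  .bwd [2,12,2] 67 1 0,
  .bwd [4,13,4] 70 0 0,
  .bwd [12,12] 64 1 0,
  .bwd [4,2,3,2,1,3,1,0,3,0,13,3] 69 2 0,
  .bwd [11,13,10] 73 1 0,
  .bwd [15,13,16,14] 76 2 1,
  .bwd [17,13,16] 77 1 0,
  .bwd [7,13,6] 71 1 0,
  .bwd [6,13,7] 71 0 1,
  .bwd [9,13,8] 72 1 0,
  .bwd [10,13,11] 73 0 1,
  .bwd [16,13,17] 77 0 1,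
  .bwd [8,13,9] 72 0 1,
  .bwd [12,12] 64 2 0,
  .bwd [2,12,2] 67 3 0,
  .bwd [1,12,1] 66 3 0,
  .bwd [0,3,0,1,3,1,2,3,2,4,13,3] 69 12 1,
  .bwd [0,12,0] 65 3 0,
  .gen [18] [12] 12 0 0,
  .bwd [14,13,15,17] 76 0 0,
  .bwd [3,13,4,3,2,3,2,1,3,1,0,3,0] 68 0 0,
  .bwd [3,13,0,3,0,1,3,1,2,3,2,3,4] 68 11 1,
  .bwd [1,2,3,0,3,1,2,4,5,0,12,1,2,3,0,3,1,2,4,5,0,12,1,2,3,0,3,1,2,4,5,0] 74 21 0,
  .bwd [1,2,3,0,3,1,2,4,5,0,12,1,2,3,0,3,1,2,4,5,0,12,1,2,3,0,3,1,2,4,5,0] 74 10 0,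
  .bwd [1,2,3,0,3,1,2,4,5,0,12,1,2,3,0,3,1,2,4,5,0,12,1,2,3,0,3,1,2,4,5,0] 74 32 0]
noncomputable def RR13 : List Rule := [.bwd [12] 13 0 0,
  .bwd [1,13,1] 66 2 1,
  .bwd [2,13,2] 67 2 1,
  .bwd [0,13,0] 65 2 1,
  .bwd [4,12,4] 70 2 0,
  .bwd [13,13] 64 1 1,
  .bwd [4,3,2,3,2,1,3,1,0,3,0,12,3] 68 2 0,
  .bwd [15,17,12,14] 76 2 0,
  .bwd [11,12,10] 73 2 1,
  .bwd [13,13] 64 2 1,
  .bwd [9,12,8] 72 2 1,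
  .bwd [17,12,16] 77 2 1,
  .bwd [7,12,6] 71 2 1,
  .bwd [6,12,7] 71 3 0,
  .bwd [10,12,11] 73 3 0,
  .bwd [8,12,9] 72 3 0,
  .bwd [16,14,12,15] 76 4 1,
  .bwd [16,12,17] 77 3 0,
  .bwd [2,13,2] 67 0 1,
  .bwd [0,3,0,1,3,1,2,3,2,3,4,12,3] 68 13 1,
  .gen [18] [13] 13 0 0,
  .bwd [0,13,0] 65 0 1,
  .bwd [1,13,1] 66 0 1,
  .bwd [3,12,4,2,3,2,1,3,1,0,3,0] 69 0 0,
  .bwd [3,12,0,3,0,1,3,1,2,3,2,4] 69 10 1,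
  .bwd [0,5,4,2,1,3,0,3,2,1,13,0,5,4,2,1,3,0,3,2,1,13,0,5,4,2,1,3,0,3,2,1] 74 11 1,
  .bwd [0,5,4,2,1,3,0,3,2,1,13,0,5,4,2,1,3,0,3,2,1,13,0,5,4,2,1,3,0,3,2,1] 74 0 1]
noncomputable def RR14 : List Rule := [.bwd [15] 14 0 0,
  .bwd [1,15,1] 85 0 0,
  .bwd [2,15,2] 86 0 0,
  .bwd [0,15,0] 84 0 0,
  .bwd [14,14] 79 1 0,
  .bwd [11,15,10] 83 1 1,
  .bwd [13,15,17,12] 76 1 0,
  .bwd [17,15,16] 78 1 0,
  .bwd [4,14,4] 80 1 0,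
  .bwd [9,15,8] 82 1 1,
  .bwd [7,15,6] 81 1 1,
  .bwd [16,15,17] 78 0 1,
  .bwd [6,15,7] 81 0 0,
  .bwd [10,15,11] 83 0 0,
  .bwd [8,15,9] 82 0 0,
  .bwd [14,14] 79 2 0,
  .bwd [12,15,13,16] 76 1 1,
  .bwd [4,14,4] 80 3 0,
  .gen [18] [14] 14 0 0,
  .bwd [5,0,6,1,8,2,10,3,5,3,11,2,9,1,7,0,5,4] 75 0 1]
noncomputable def RR15 : List Rule := [.bwd [14] 15 0 0,
  .bwd [1,14,1] 85 2 0,
  .bwd [0,14,0] 84 2 0,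
  .bwd [2,14,2] 86 2 0,
  .bwd [15,15] 79 1 1,
  .bwd [17,14,16] 78 2 1,
  .bwd [15,15] 79 2 1,
  .bwd [11,14,10] 83 2 0,
  .bwd [13,16,14,12] 76 3 1,
  .bwd [4,15,4] 80 2 1,
  .bwd [9,14,8] 82 2 0,
  .bwd [7,14,6] 81 2 0,
  .bwd [6,14,7] 81 3 1,
  .bwd [8,14,9] 82 3 1,
  .bwd [10,14,11] 83 3 1,
  .bwd [16,14,17] 78 3 0,
  .bwd [17,12,14,13] 76 3 0,
  .bwd [4,5,0,6,1,8,2,10,3,5,3,11,2,9,1,7,0,5] 75 18 0,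
  .bwd [4,15,4] 80 0 1,
  .gen [18] [15] 15 0 0]
noncomputable def RR16 : List Rule := [.bwd [17] 16 0 0,
  .bwd [14,17,15] 78 0 0,
  .bwd [15,17,14] 78 1 1,
  .bwd [13,17,12] 77 1 1,
  .bwd [12,17,13] 77 0 0,
  .bwd [11,17,10] 89 1 1,
  .bwd [10,17,11] 89 0 0,
  .bwd [9,17,8] 88 1 1,
  .bwd [7,17,6] 87 1 1,
  .bwd [6,17,7] 87 0 0,
  .bwd [8,17,9] 88 0 0,
  .bwd [14,12,15,13] 76 0 1,
  .gen [18] [16] 16 0 0]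
noncomputable def RR17 : List Rule := [.bwd [16] 17 0 0,
  .bwd [14,16,15] 78 3 1,
  .bwd [15,16,14] 78 2 0,
  .bwd [13,16,12] 77 2 0,
  .bwd [12,16,13] 77 3 1,
  .bwd [11,16,10] 89 2 0,
  .bwd [9,16,8] 88 2 0,
  .bwd [7,16,6] 87 2 0,
  .bwd [6,16,7] 87 3 1,
  .bwd [10,16,11] 89 3 1,
  .bwd [8,16,9] 88 3 1,
  .bwd [12,14,13,15] 76 4 0,
  .gen [18] [17] 17 0 0]
noncomputable def RR18 : List Rule := [.gen [3] [18,3] 3 0 0,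
  .gen [2] [18,2] 2 0 0,
  .gen [1] [18,1] 1 0 0,
  .gen [0] [18,0] 0 0 0,
  .gen [4] [18,4] 4 0 0,
  .gen [5] [18,5] 5 0 0,
  .gen [10] [18,10] 10 0 0,
  .gen [13] [18,13] 13 0 0,
  .gen [11] [18,11] 11 0 0,
  .gen [8] [18,8] 8 0 0,
  .gen [6] [18,6] 6 0 0,
  .gen [12] [18,12] 12 0 0,
  .gen [18,3] [3] 3 0 0,
  .fwd [1,2,1,2] 20 0 1,
  .gen [7] [18,7] 7 0 0,
  .gen [9] [18,9] 9 0 0,
  .gen [18,1] [1] 1 0 0,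
  .gen [18,0] [0] 0 0 0,
  .gen [18,8] [8] 8 0 0,
  .gen [18,10] [10] 10 0 0,
  .gen [18,2] [2] 2 0 0,
  .fwd [9,2,8,2] 42 1 1,
  .gen [18,5] [5] 5 0 0,
  .gen [18,4] [4] 4 0 0,
  .bwd [1,2,1,2] 20 2 0,
  .fwd [0,1,0,1] 18 0 1,
  .bwd [11,3,2,3,2,10,3] 50 2 0,
  .fwd [0,2,0,2] 19 0 1,
  .fwd [1,8,1,8] 41 0 1,
  .gen [18,9] [9] 9 0 0,
  .bwd [9,2,8,2] 42 3 0,
  .gen [18,12] [12] 12 0 0,
  .gen [18,14] [14] 14 0 0,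
  .fwd [7,0,7,0] 33 0 0,
  .bwd [13,0,13,0] 65 2 1,
  .gen [18,15] [15] 15 0 0,
  .fwd [2,12,2,12] 67 0 1,
  .gen [18,6] [6] 6 0 0,
  .bwd [5,3,2,3,2,5,2] 59 2 0,
  .fwd [7,0,5,7,0,5,7,0,5] 61 0 0,
  .fwd [2,4,2,4] 23 1 1,
  .gen [14] [18,14] 14 0 0,
  .bwd [5,3,0,3,0,5,0] 57 2 0,
  .bwd [2,4,2,4] 23 3 0,
  .gen [15] [18,15] 15 0 0,
  .fwd [0,6,0,6] 33 0 1,
  .fwd [7,1,6,1] 34 1 1,
  .fwd [4,5,3,1,3,2,3,1,3,0,3,1,3,2,3,1,3,0,5] 60 18 1,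
  .fwd [4,3,4,3] 24 0 1,
  .fwd [9,1,9,1] 41 0 0,
  .bwd [5,3,1,3,2,3,1,3,0,3,1,3,2,3,1,3,0,5,4] 60 2 0,
  .bwd [13,4,3,2,3,2,1,3,1,0,3,0,12,3] 68 2 0,
  .fwd [5,3,1,3,1,5,1] 58 5 1,
  .fwd [1,7,1,6] 34 2 1,
  .bwd [0,6,3,7,3,0,3] 36 6 0,
  .fwd [3,0,3,0,6,3,7] 36 4 1,
  .fwd [3,0,7,3,6,0] 37 2 1,
  .bwd [5,3,1,3,1,5,1] 58 2 0,
  .fwd [0,5,0,5,3,0,3] 57 1 1,
  .fwd [2,9,2,8] 42 2 1,
  .bwd [3,4,3,4] 24 3 0,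
  .fwd [0,13,0,13] 65 1 0,
  .bwd [9,1,9,1] 41 2 1,
  .gen [16] [18,16] 16 0 0,
  .fwd [5,0,6,5,0,6,5,0,6] 61 0 1,
  .fwd [3,10,2,3,2,11] 51 5 1,
  .bwd [5,2,5,3,2,3,2] 59 0 0,
  .fwd [3,1,3,1,8,3,9] 43 4 1,
  .fwd [2,7,2,6] 35 2 1,
  .fwd [3,2,11,3,10,2] 51 2 1,
  .fwd [2,3,2,10,3,11,3] 50 3 1,
  .fwd [9,14,8,15] 82 1 1,
  .bwd [2,1,2,1] 20 3 0,
  .bwd [12,1,12,1] 66 1 0,
  .gen [18,17] [17] 17 0 0,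
  .fwd [3,0,3,0,5,0,5] 57 4 1,
  .fwd [1,4,1,4] 22 1 1,
  .gen [18,7] [7] 7 0 0,
  .bwd [3,2,5,2,5,3,2] 59 5 0,
  .bwd [4,15,4,15] 80 3 1,
  .bwd [2,5,3,2,3,2,5] 59 1 0,
  .bwd [1,8,1,8] 41 2 0,
  .bwd [11,2,11,2] 49 2 1,
  .fwd [3,7,3,0,3,0,6] 36 6 1,
  .gen [18,11] [11] 11 0 0,
  .bwd [0,7,3,6,0,3] 37 5 0,
  .bwd [11,2,3,2,3,10,3] 50 6 1,
  .bwd [5,0,5,0,3,0,3] 57 4 1,
  .bwd [0,5,0,5,3,0,3] 57 6 0,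
  .fwd [5,3,5,3,5,3] 56 0 1,
  .bwd [4,2,4,2] 23 2 0,
  .bwd [13,2,13,2] 67 2 1,
  .bwd [13,1,13,1] 66 2 1,
  .gen [18,13] [13] 13 0 0,
  .fwd [3,1,8,3,9,3,1] 43 2 1,
  .fwd [5,2,5,3,2,3,2] 59 0 1,
  .bwd [15,0,14,0] 84 2 0,
  .fwd [13,13,13] 64 1 0,
  .fwd [0,3,0,6,3,7,3] 36 3 1,
  .fwd [2,14,2,15] 86 1 1,
  .bwd [0,8,0,9] 40 0 0,
  .fwd [5,15,4,5,0,6,1,8,2,10,3,5,3,11,2,9,1,7,0] 75 2 1,
  .bwd [6,2,7,2] 35 1 0,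
  .fwd [2,10,2,10] 49 0 1,
  .gen [18,16] [16] 16 0 0,
  .bwd [0,3,0,3,5,0,5] 57 0 1,
  .bwd [0,6,0,6] 33 2 0,
  .fwd [0,3,0,5,0,5,3] 57 3 1,
  .fwd [4,0,4,0] 21 0 1,
  .fwd [2,3,2,11,3,10] 51 3 1,
  .bwd [3,2,3,2,10,3,11] 50 3 0,
  .fwd [5,3,0,3,0,5,0] 57 5 1,
  .bwd [16,11,17,10] 89 1 1,
  .bwd [2,4,13,3,12,0,3,0,1,3,1,2,3] 69 8 1,
  .fwd [1,2,3,0,3,1,2,4,5,0,12,1,2,3,0,3,1,2,4,5,0,12,1,2,3,0,3,1,2,4,5,0,12] 74 0 1,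
  .bwd [3,1,8,3,9,3,1] 43 5 0,
  .fwd [1,3,1,8,3,9,3] 43 3 1,
  .bwd [0,5,0,3,0,3,5] 57 5 1,
  .fwd [2,13,2,13] 67 1 0,
  .bwd [2,10,2,10] 49 0 0,
  .fwd [15,0,14,0] 84 2 1,
  .bwd [0,14,0,15] 84 3 0,
  .bwd [5,3,5,3,5,3] 56 4 0,
  .bwd [4,0,4,0] 21 2 0,
  .bwd [0,5,3,0,3,0,5] 57 1 0,
  .bwd [12,2,12,2] 67 3 0,
  .bwd [9,14,8,15] 82 3 0,
  .bwd [5,3,5,3,5,3] 56 2 0,
  .bwd [7,1,6,1] 34 3 0,
  .bwd [6,4,7,4] 38 0 0,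
  .fwd [3,1,9,3,8,1] 44 2 1,
  .bwd [5,2,5,2,3,2,3] 59 4 1,
  .fwd [1,5,3,1,3,1,5] 58 6 1,
  .bwd [2,5,2,3,2,3,5] 59 5 1,
  .fwd [6,14,7,15] 81 0 0,
  .bwd [4,1,4,1] 22 2 0,
  .bwd [7,2,6,2] 35 3 0,
  .bwd [0,1,0,1] 18 2 0,
  .fwd [1,10,1,11] 48 0 1,
  .fwd [3,4,3,4] 24 1 1,
  .fwd [11,2,11,2] 49 0 0,
  .bwd [3,9,3,1,3,1,8] 43 1 0,
  .bwd [11,4,10,4] 52 2 0,
  .fwd [5,3,2,3,2,5,2] 59 5 1,
  .bwd [1,4,1,4] 22 3 0,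
  .bwd [4,2,4,2] 23 0 0,
  .bwd [14,1,15,1] 85 0 0,
  .bwd [0,3,0,5,0,5,3] 57 4 0,
  .bwd [1,3,1,5,1,5,3] 58 4 0,
  .fwd [3,9,3,1,3,1,8] 43 6 1,
  .bwd [3,13,4,3,2,3,2,1,3,1,0,3,0,12] 68 1 0,
  .fwd [0,3,0,7,3,6] 37 3 1,
  .bwd [6,0,3,0,7,3] 37 2 0,
  .bwd [2,10,2,10] 49 2 0,
  .bwd [3,11,3,2,3,2,10] 50 1 0,
  .bwd [17,9,16,8] 88 2 0,
  .fwd [12,0,12,0] 65 1 1,
  .bwd [2,13,2,13] 67 3 1,
  .fwd [1,2,4,3,0,1,2,3,0,1,2,3,0,1,2,3,0] 31 3 1,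
  .bwd [13,6,12,7] 71 3 0,
  .bwd [14,11,15,10] 83 1 1,
  .bwd [13,7,12,6] 71 2 1,
  .bwd [15,8,14,9] 82 3 1,
  .fwd [5,2,3,2,3,5,2] 59 1 0,
  .bwd [12,1,12,1] 66 3 0,
  .fwd [3,12,0,3,0,1,3,1,2,3,2,4,13] 69 2 0,
  .fwd [5,0,6,5,0,6,5,0,6] 61 3 1,
  .fwd [1,3,1,9,3,8] 44 3 1,
  .fwd [2,1,2,1] 20 1 1,
  .fwd [1,6,1,7] 34 0 1,
  .fwd [0,11,0,10] 47 2 1,
  .fwd [3,11,3,2,3,2,10] 50 6 1,
  .fwd [2,10,3,11,3,2,3] 50 1 1,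
  .bwd [1,3,1,8,3,9,3] 43 4 0,
  .bwd [11,9,10,8] 55 2 1,
  .bwd [3,2,4,13,3,12,0,3,0,1,3,1,2] 69 7 1,
  .fwd [2,3,10,3,11,2,3] 50 5 0,
  .fwd [10,2,10,2] 49 1 1,
  .bwd [5,2,3,2,3,5,2] 59 6 1,
  .bwd [0,12,0,12] 65 0 0,
  .fwd [3,2,10,3,11,3,2] 50 2 1,
  .bwd [1,0,1,0] 18 3 0,
  .fwd [7,7,7] 32 1 0,
  .fwd [7,2,6,2] 35 1 1,
  .fwd [9,10,8,11] 55 1 0,
  .bwd [7,7,7] 32 2 1,
  .fwd [7,3,6,0,3,0] 37 0 1,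
  .bwd [2,3,2,3,5,2,5] 59 0 1,
  .fwd [11,2,3,2,3,10,3] 50 1 0,
  .bwd [2,4,2,4] 23 1 0,
  .fwd [11,14,10,15] 83 1 1,
  .fwd [11,3,2,3,2,10,3] 50 5 1,
  .bwd [4,5,0,6,1,8,2,10,3,5,3,11,2,9,1,7,0,5,15] 75 0 0,
  .bwd [0,3,1,0,3,1,0,3,1,0,3,1] 27 1 1,
  .bwd [2,8,2,9] 42 0 0,
  .bwd [5,0,6,5,0,6,5,0,6] 61 3 0,
  .bwd [3,2,1,3,2,1,3,2,1,3,2,1] 30 5 1,
  .bwd [15,9,14,8] 82 2 0,
  .fwd [3,1,3,1,5,1,5] 58 4 1,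
  .fwd [0,3,6,3,7,0,3] 36 5 0,
  .fwd [11,9,10,8] 55 2 0,
  .fwd [6,0,3,0,7,3] 37 4 1,
  .bwd [0,2,0,2] 19 2 0,
  .fwd [3,1,3,2,3,1,3,0,3,1,3,2,3,1,3,0,5,4,5] 60 16 1,
  .fwd [0,3,0,3,5,0,5] 57 0 0,
  .fwd [6,10,7,11] 54 0 1,
  .bwd [0,12,0,12] 65 2 0,
  .fwd [14,13,15,17,12] 76 4 1,
  .bwd [14,12,15,13,16] 76 1 1,
  .bwd [12,0,12,0] 65 3 0,
  .fwd [1,8,3,9,3,1,3] 43 1 1,
  .bwd [10,1,11,1] 48 1 0,
  .fwd [5,3,5,3,5,3] 56 4 1,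
  .fwd [5,0,3,0,3,5,0] 57 1 0,
  .bwd [2,10,3,11,3,2,3] 50 6 0,
  .fwd [3,13,4,3,2,3,2,1,3,1,0,3,0,12] 68 13 1,
  .bwd [5,1,8,5,1,8,5,1,8] 62 3 0,
  .fwd [1,3,2,3,1,3,0,3,1,3,2,3,1,3,5,4,5,0,3] 60 17 0,
  .fwd [3,12,4,2,3,2,1,3,1,0,3,0,13] 69 12 1,
  .fwd [4,12,4,13] 70 1 1,
  .fwd [5,0,5,3,0,3,0] 57 0 1,
  .fwd [2,5,2,5,3,2,3] 59 1 1,
  .fwd [0,12,0,12] 65 0 1,
  .fwd [3,0,6,3,7,3,0] 36 2 1,
  .fwd [13,6,12,7] 71 1 1,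
  .bwd [0,6,1,8,2,10,3,5,3,11,2,9,1,7,0,5,15,4,5] 75 2 0,
  .fwd [1,3,1,3,5,1,5] 58 0 0,
  .bwd [3,2,3,10,3,11,2] 50 1 1,
  .bwd [7,0,7,0] 33 2 1,
  .fwd [8,1,3,1,9,3] 44 4 1,
  .bwd [15,6,14,7] 81 3 1,
  .bwd [5,0,6,5,0,6,5,0,6] 61 0 0,
  .bwd [1,8,5,1,8,5,1,8,5] 62 7 0,
  .bwd [11,1,10,1] 48 3 0,
  .bwd [1,3,1,3,5,1,5] 58 0 1,
  .fwd [3,2,1,0,3,2,1,0,3,2,1,0,3,4,2,1,0] 31 13 0,
  .fwd [5,0,6,1,8,2,10,3,5,3,11,2,9,1,7,0,5,15,4] 75 18 1,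
  .bwd [10,8,11,9] 55 0 1,
  .bwd [4,9,4,8] 45 1 0,
  .bwd [1,5,3,1,3,1,5] 58 1 0,
  .fwd [5,2,10,5,2,10,5,2,10] 63 3 1,
  .bwd [14,5,0,6,1,8,2,10,3,5,3,11,2,9,1,7,0,5,4] 75 0 1,
  .fwd [17,13,16,12] 77 2 1,
  .fwd [10,2,3,2,11,3] 51 4 1,
  .bwd [2,14,2,15] 86 3 0,
  .fwd [16,9,17,8] 88 3 0,
  .fwd [11,2,5,11,2,5,11,2,5] 63 0 0,
  .bwd [8,1,3,1,9,3] 44 2 0,
  .fwd [7,0,7,0] 33 2 0,
  .bwd [2,3,2,10,3,11,3] 50 4 0,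
  .fwd [12,14,13,15,17] 76 0 1,
  .bwd [2,0,3,2,0,3,2,0,3,2,0,3] 29 3 1,
  .fwd [2,1,3,1,0,3,0,12,3,13,4,3,2,3] 68 7 1,
  .fwd [3,0,1,2,3,0,1,2,4,3,0,1,2,3,0,1,2] 31 9 1,
  .fwd [7,0,5,7,0,5,7,0,5] 61 3 0,
  .bwd [1,11,1,10] 48 2 0,
  .bwd [1,5,1,5,3,1,3] 58 6 0,
  .fwd [7,15,6,14] 81 2 0,
  .bwd [2,5,2,5,3,2,3] 59 6 0,
  .fwd [0,7,0,7] 33 1 0,
  .fwd [11,8,10,9] 55 1 1,
  .fwd [3,5,3,11,2,9,1,7,0,5,15,4,5,0,6,1,8,2,10] 75 11 1,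
  .fwd [9,3,8,1,3,1] 44 0 1,
  .fwd [1,2,3,1,2,3,1,2,3,1,2,3] 30 11 1,
  .bwd [3,1,3,1,8,3,9] 43 3 0,
  .fwd [12,1,12,1] 66 1 1,
  .fwd [6,0,6,0] 33 1 1,
  .bwd [1,7,1,6] 34 2 0,
  .fwd [5,2,10,5,2,10,5,2,10] 63 6 1,
  .bwd [0,1,2,4,3,0,1,2,3,0,1,2,3,0,1,2,3] 31 13 0,
  .bwd [17,11,16,10] 89 2 0,
  .bwd [4,5,0,3,1,3,2,3,1,3,0,3,1,3,2,3,1,3,5] 60 17 1,
  .bwd [3,7,0,3,0,3,6] 36 5 1,
  .fwd [8,8,8] 39 1 1,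
  .bwd [8,2,9,2] 42 1 0,
  .bwd [7,11,6,10] 54 2 0,
  .fwd [5,11,2,5,11,2,5,11,2] 63 1 0,
  .bwd [5,1,3,1,3,5,1] 58 6 1,
  .fwd [3,5,3,5,3,5] 56 3 1,
  .fwd [10,4,11,4] 52 0 1,
  .fwd [11,13,10,12] 73 2 1,
  .bwd [12,14,13,15,17] 76 0 0,
  .fwd [15,17,12,14,13] 76 2 1,
  .fwd [14,6,15,7] 81 0 1,
  .fwd [11,15,10,14] 83 2 0,
  .fwd [2,0,2,0] 19 1 1,
  .fwd [9,9,9] 39 1 0,
  .bwd [5,3,11,2,9,1,7,0,5,15,4,5,0,6,1,8,2,10,3] 75 9 0,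
  .fwd [14,2,15,2] 86 0 1,
  .fwd [4,2,4,2] 23 0 1,
  .bwd [6,3,7,0,3,0,3] 36 4 1,
  .bwd [1,0,3,0,12,3,13,4,3,2,3,2,1,3] 68 10 0,
  .bwd [15,16,14,17] 78 3 0,
  .bwd [3,0,3,0,5,0,5] 57 3 0,
  .fwd [1,3,0,1,3,0,1,3,0,1,3,0] 27 1 1,
  .bwd [1,13,1,13] 66 3 1,
  .bwd [13,17,12,16] 77 2 1,
  .fwd [5,3,5,3,5,3] 56 2 1,
  .fwd [5,1,5,1,3,1,3] 58 3 0,
  .bwd [0,6,1,8,2,10,3,5,3,11,2,9,1,7,0,5,4,14,5] 75 2 1,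
  .fwd [16,13,17,12] 77 3 0,
  .bwd [2,3,2,5,2,5,3] 59 4 0,
  .fwd [11,7,10,6] 54 2 0,
  .fwd [9,1,9,1] 41 2 0,
  .bwd [8,8,8] 39 2 0,
  .bwd [7,3,6,0,3,0] 37 0 0,
  .fwd [3,11,2,3,2,3,10] 50 2 0,
  .fwd [5,7,0,5,7,0,5,7,0] 61 7 0,
  .bwd [7,14,6,15] 81 3 0,
  .bwd [1,14,1,15] 85 3 0,
  .fwd [3,8,1,3,1,9] 44 5 1,
  .fwd [1,3,1,3,1,3,1,3] 26 1 1,
  .fwd [13,1,13,1] 66 2 0,
  .bwd [3,5,3,5,3,5] 56 3 0,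
  .bwd [2,0,2,0] 19 3 0,
  .fwd [1,0,1,0] 18 1 1,
  .bwd [4,3,4,3] 24 0 0,
  .fwd [5,11,2,5,11,2,5,11,2] 63 7 0,
  .bwd [3,2,3,5,2,5,2] 59 1 1,
  .fwd [2,8,2,9] 42 0 1,
  .fwd [9,1,7,0,5,15,4,5,0,6,1,8,2,10,3,5,3,11,2] 75 6 1,
  .bwd [0,1,2,3,0,1,2,3,0,1,2,3,0,1,2,4,3] 31 1 0,
  .fwd [16,15,17,14] 78 3 0,
  .bwd [6,15,7,14] 81 1 0,
  .fwd [15,9,14,8] 82 2 1,
  .bwd [14,0,15,0] 84 0 0,
  .fwd [10,14,11,15] 83 0 0,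
  .bwd [2,9,2,8] 42 2 0,
  .fwd [15,7,14,6] 81 2 1,
  .fwd [1,8,1,8] 41 2 1,
  .bwd [3,5,2,5,2,3,2] 59 3 1,
  .bwd [11,7,10,6] 54 2 1,
  .fwd [1,2,1,2] 20 2 1,
  .fwd [2,3,0,2,3,0,2,3,0,2,3,0] 29 1 1,
  .bwd [14,14,14] 79 0 0,
  .bwd [12,4,2,3,2,1,3,1,0,3,0,13,3] 69 2 0,
  .fwd [13,15,17,12,14] 76 3 1,
  .bwd [9,1,9,1] 41 0 1,
  .bwd [4,5,3,1,3,2,3,1,3,0,3,1,3,2,3,1,3,0,5] 60 1 0,
  .fwd [4,5,0,3,1,3,2,3,1,3,0,3,1,3,2,3,1,3,5] 60 2 0,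
  .fwd [17,7,16,6] 87 2 1,
  .fwd [15,1,14,1] 85 2 1,
  .fwd [0,7,3,6,0,3] 37 1 1,
  .bwd [9,12,8,13] 72 3 1,
  .bwd [2,3,2,11,3,10] 51 3 0,
  .bwd [5,0,6,1,8,2,10,3,5,3,11,2,9,1,7,0,5,15,4] 75 1 0,
  .fwd [5,1,8,5,1,8,5,1,8] 62 3 1,
  .fwd [4,8,4,9] 45 1 1,
  .fwd [2,3,2,5,2,5,3] 59 3 1,
  .bwd [10,4,11,4] 52 0 0,
  .fwd [13,0,13,0] 65 2 0,
  .fwd [8,6,9,7] 53 0 0,
  .fwd [8,11,9,10] 55 3 0,
  .fwd [1,9,3,8,1,3] 44 1 1,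
  .bwd [3,1,5,1,5,3,1] 58 5 0,
  .bwd [3,13,0,3,0,1,3,1,2,3,2,3,4,12] 68 12 1,
  .bwd [12,7,13,6] 71 1 0,
  .bwd [3,0,6,3,7,3,0] 36 5 0,
  .fwd [12,0,3,0,1,3,1,2,3,2,4,13,3] 69 1 0,
  .bwd [12,2,12,2] 67 1 0,
  .fwd [6,5,0,6,5,0,6,5,0] 61 7 1,
  .bwd [3,1,2,3,1,2,3,1,2,3,1,2] 30 6 0,
  .bwd [1,2,3,1,2,3,1,2,3,1,2,3] 30 1 0,
  .fwd [2,15,2,14] 86 3 1,
  .bwd [7,12,6,13] 71 3 1,
  .fwd [3,2,3,2,10,3,11] 50 4 1,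
  .bwd [14,7,15,6] 81 1 1,
  .fwd [1,9,1,9] 41 1 0,
  .bwd [0,3,5,0,5,0,3] 57 2 1,
  .bwd [15,17,14,16] 78 2 1,
  .bwd [10,3,11,3,2,3,2] 50 0 0,
  .bwd [0,11,0,10] 47 2 0,
  .bwd [3,2,11,3,10,2] 51 4 0,
  .fwd [0,10,0,11] 47 0 1,
  .bwd [1,12,1,12] 66 0 0,
  .fwd [4,15,4,15] 80 1 0,
  .fwd [4,1,4,1] 22 0 1,
  .bwd [11,11,11] 46 2 1,
  .fwd [3,6,0,3,0,7] 37 5 1,
  .bwd [14,4,14,4] 80 3 0,
  .fwd [1,11,1,10] 48 2 1,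
  .bwd [8,3,9,1,3,1,3] 43 4 1,
  .bwd [2,10,5,2,10,5,2,10,5] 63 4 0,
  .bwd [17,7,16,6] 87 2 0,
  .bwd [1,8,5,1,8,5,1,8,5] 62 1 0,
  .bwd [0,3,0,3,0,3,0,3] 25 1 0,
  .bwd [16,7,17,6] 87 1 1,
  .bwd [13,8,12,9] 72 3 0,
  .fwd [6,1,7,1] 34 3 1,
  .bwd [5,2,10,5,2,10,5,2,10] 63 6 0,
  .bwd [15,4,5,0,6,1,8,2,10,3,5,3,11,2,9,1,7,0,5] 75 18 0,
  .fwd [6,2,7,2] 35 3 1,
  .bwd [3,9,1,3,1,3,8] 43 5 1,
  .bwd [3,5,3,5,3,5] 56 1 0,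
  .fwd [3,2,5,2,5,3,2] 59 2 1,
  .bwd [5,0,5,3,0,3,0] 57 0 0,
  .bwd [1,8,5,1,8,5,1,8,5] 62 4 0,
  .fwd [5,2,5,2,3,2,3] 59 3 0,
  .bwd [1,9,3,8,1,3] 44 5 0,
  .bwd [3,0,3,0,6,3,7] 36 3 0,
  .fwd [3,0,3,6,3,7,0] 36 6 0,
  .bwd [3,2,1,0,3,2,1,0,3,2,1,0,3,4,2,1,0] 31 4 1,
  .bwd [8,17,9,16] 88 1 0,
  .fwd [16,7,17,6] 87 3 0,
  .fwd [15,6,14,7] 81 1 0,
  .bwd [1,3,0,1,3,0,1,3,0,1,3,0] 27 2 0,
  .fwd [3,10,3,11,2,3,2] 50 4 0,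
  .fwd [11,6,10,7] 54 1 1,
  .bwd [7,9,6,8] 53 2 0,
  .bwd [15,4,15,4] 80 2 1,
  .bwd [11,0,10,0] 47 3 0,
  .fwd [12,4,13,4] 70 0 1,
  .bwd [1,15,1,14] 85 1 0,
  .fwd [12,16,13,17] 77 0 0,
  .fwd [11,2,11,2] 49 2 0,
  .bwd [2,3,2,3,2,3,2,3] 28 3 0,
  .bwd [0,6,5,0,6,5,0,6,5] 61 7 0,
  .bwd [3,2,3,2,5,2,5] 59 3 0,
  .fwd [0,3,2,1,0,3,2,1,0,3,4,2,1,0,3,2,1] 31 10 0,
  .fwd [3,1,3,2,3,1,3,0,5,4,5,3,1,3,2,3,1,3,0] 60 8 1,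
  .fwd [3,2,3,2,5,2,5] 59 4 1,
  .fwd [3,1,3,8,3,9,1] 43 6 0,
  .fwd [5,1,5,3,1,3,1] 58 0 1,
  .fwd [7,13,6,12] 71 2 1,
  .fwd [2,3,2,3,10,3,11] 50 0 0,
  .fwd [3,0,1,2,3,0,1,2,3,0,1,2,3,0,1,2,4] 31 0 1,
  .fwd [1,2,3,1,2,3,1,2,3,1,2,3] 30 2 1,
  .fwd [0,8,0,9] 40 0 1,
  .bwd [0,3,0,3,0,3,0,3] 25 3 0,
  .bwd [15,11,14,10] 83 2 0,
  .bwd [3,1,3,2,3,1,3,0,3,1,3,2,3,1,3,5,4,5,0] 60 1 1,
  .fwd [5,7,0,5,7,0,5,7,0] 61 1 0,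
  .fwd [10,2,10,2] 49 3 1,
  .bwd [6,13,7,12] 71 1 1,
  .fwd [0,5,4,5,3,1,3,2,3,1,3,0,3,1,3,2,3,1,3] 60 1 1,
  .bwd [3,5,0,5,0,3,0] 57 3 1,
  .fwd [4,0,4,0] 21 2 1,
  .fwd [4,1,4,1] 22 2 1,
  .fwd [3,6,3,7,0,3,0] 36 4 0,
  .fwd [5,1,3,1,3,5,1] 58 1 0,
  .bwd [8,7,9,6] 53 1 0,
  .bwd [0,3,2,0,3,2,0,3,2,0,3,2] 29 4 1,
  .fwd [0,15,0,14] 84 3 1,
  .bwd [4,3,4,3] 24 2 0,
  .fwd [1,3,1,5,1,5,3] 58 3 1,
  .bwd [0,4,0,4] 21 3 0,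
  .bwd [4,0,4,0] 21 0 0,
  .fwd [0,12,0,12] 65 2 1,
  .fwd [10,10,10] 46 0 1,
  .bwd [0,4,0,4] 21 1 0,
  .fwd [7,0,3,0,3,6,3] 36 1 0,
  .fwd [1,3,2,1,3,2,1,3,2,1,3,2] 30 2 0,
  .bwd [3,10,2,3,2,11] 51 1 0,
  .bwd [1,6,1,7] 34 0 0,
  .bwd [0,3,2,1,0,3,2,1,0,3,2,1,0,3,4,2,1] 31 3 1,
  .fwd [3,0,1,3,1,2,3,2,4,13,3,12,0] 69 12 0,
  .fwd [4,13,4,12] 70 3 1,
  .bwd [12,9,13,8] 72 1 0,
  .fwd [2,12,2,12] 67 2 1,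
  .bwd [13,0,3,0,1,3,1,2,3,2,3,4,12,3] 68 13 1,
  .fwd [2,13,2,13] 67 3 0,
  .bwd [12,4,13,4] 70 0 0,
  .bwd [13,13,13] 64 2 1,
  .fwd [3,1,3,1,3,1,3,1] 26 2 1,
  .bwd [3,1,3,1,5,1,5] 58 3 0,
  .bwd [3,1,3,0,3,1,3,2,3,1,3,0,5,4,5,3,1,3,2] 60 7 0,
  .fwd [13,2,13,2] 67 0 0,
  .bwd [0,3,0,3,6,3,7] 36 0 1,
  .bwd [6,5,0,6,5,0,6,5,0] 61 2 0,
  .bwd [10,2,3,2,11,3] 51 2 0,
  .bwd [3,5,3,5,3,5] 56 5 0,
  .bwd [8,0,9,0] 40 1 0,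
  .fwd [1,15,1,14] 85 3 1,
  .fwd [5,0,6,5,0,6,5,0,6] 61 6 1,
  .bwd [15,2,14,2] 86 2 0,
  .fwd [7,9,6,8] 53 2 1,
  .fwd [2,5,3,2,3,2,5] 59 6 1,
  .bwd [2,11,3,10,2,3] 51 5 0,
  .fwd [3,5,3,5,3,5] 56 1 1,
  .fwd [2,3,1,2,3,1,2,3,1,2,3,1] 30 1 1,
  .bwd [11,2,5,11,2,5,11,2,5] 63 6 1,
  .bwd [5,0,6,1,8,2,10,3,5,3,11,2,9,1,7,0,5,4,14] 75 1 1,
  .fwd [4,2,4,2] 23 2 1,
  .fwd [16,14,12,15,13] 76 0 0,
  .fwd [11,1,10,1] 48 1 1]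
noncomputable def RR : List (List Rule) := [RR0, RR1, RR2, RR3, RR4, RR5, RR6, RR7, RR8, RR9, RR10, RR11, RR12, RR13, RR14, RR15, RR16, RR17, RR18]
noncomputable def rowp (j : ℕ) : ℕ := piece tT (nat_lit 3) (nat_lit 7) (nat_lit 2584) (Nat.pred (Nat.shiftLeft 1 (nat_lit 2584))) j
noncomputable def row (u : ℕ) : ℕ := rowOf rowp (nat_lit 2) (nat_lit 3) (nat_lit 646) u
noncomputable def jrowp (j : ℕ) : ℕ := piece tJ (nat_lit 3) (nat_lit 7) (nat_lit 3648) (Nat.pred (Nat.shiftLeft 1 (nat_lit 3648))) j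
noncomputable def jrow (u : ℕ) : ℕ := rowOf jrowp (nat_lit 3) (nat_lit 7) (nat_lit 456) u
noncomputable def drowp (j : ℕ) : ℕ := piece tD (nat_lit 3) (nat_lit 7) (nat_lit 2432) (Nat.pred (Nat.shiftLeft 1 (nat_lit 2432))) j
noncomputable def drow (u : ℕ) : ℕ := rowOf drowp (nat_lit 6) (nat_lit 63) (nat_lit 38) u
noncomputable def cert : PCert := ⟨(nat_lit 18), (nat_lit 19), (nat_lit 32767), (nat_lit 34), (nat_lit 17179869183), (nat_lit 17179869182), (nat_lit 28431), (nat_lit 28430), (nat_lit 30940), (nat_lit 9), (nat_lit 511), (nat_lit 24), (nat_lit 16777215), (nat_lit 274877906943), (nat_lit 5), row, jrow, drow, RR⟩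
theorem params : cert.paramsOK = true := by decide +kernel
theorem rules : rulesOK rels subs iv cert.L cert.LL cert.RR = true := by decide +kernel

end CL.LE.W.Ep
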